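import Mathlib
import Cfsg.Prelude.Def_FischerSpaces

/-! A class of involutions seen as the points of a permutation representation: the point stabiliser is the
centraliser of the member attached to the point. -/

set_option autoImplicit false

namespace CfsgLib.ThreeTrans.Inst

/-- A faithful transitive action in which the stabiliser of the base point is the centraliser of an involution. -/
structure PointClass (G : Type*) [Group G] (N : ℕ) where
  φ : G →* Equiv.Perm (Fin N)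
  o : Fin N
  a : G
  a_ne : a ≠ 1
  a_sq : a * a = 1
  inj : Function.Injective φ
  trans : ∀ j, ∃ g, φ g o = j
  stab : ∀ g, φ g o = o → Commute g a
  fix : ∀ g, Commute g a → φ g o = o

namespace PointClass

variable {G : Type*} [Group G] {N : ℕ} (P : PointClass G N)

/-- The class. -/
def D : Set G := conjugatesOf P.a

theorem mem_D {x : G} : x ∈ P.D ↔ ∃ g : G, g * P.a * g⁻¹ = x := isConj_iff

theorem conj_eq_iff (g g' : G) : g * P.a * g⁻¹ = g' * P.a * g'⁻¹ ↔ P.φ g P.o = P.φ g' P.o := by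
  have e : P.φ g P.o = P.φ g' P.o ↔ P.φ (g'⁻¹ * g) P.o = P.o := by
    rw [map_mul, Equiv.Perm.mul_apply, map_inv, Equiv.Perm.inv_def, Equiv.symm_apply_eq]
  rw [e]
  constructor
  · intro h
    refine P.fix _ ?_
    show g'⁻¹ * g * P.a = P.a * (g'⁻¹ * g)
    calc g'⁻¹ * g * P.a = g'⁻¹ * (g * P.a * g⁻¹) * g := by group
      _ = g'⁻¹ * (g' * P.a * g'⁻¹) * g := by rw [h]
      _ = P.a * (g'⁻¹ * g) := by group
  · intro h
    have hc : g'⁻¹ * g * P.a = P.a * (g'⁻¹ * g) := P.stab _ h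
    calc g * P.a * g⁻¹ = g' * (g'⁻¹ * g * P.a) * g⁻¹ := by group
      _ = g' * (P.a * (g'⁻¹ * g)) * g⁻¹ := by rw [hc]
      _ = g' * P.a * g'⁻¹ := by group

/-- The member of the class attached to a point. -/
noncomputable def tp (j : Fin N) : G := (P.trans j).choose * P.a * (P.trans j).choose⁻¹

theorem tp_phi (g : G) : P.tp (P.φ g P.o) = g * P.a * g⁻¹ :=
  (P.conj_eq_iff _ _).2 (P.trans (P.φ g P.o)).choose_spec

theorem tp_mem (j : Fin N) : P.tp j ∈ P.D := P.mem_D.2 ⟨_, rfl⟩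

theorem tp_o : P.tp P.o = P.a := by
  have h := P.tp_phi 1
  simpa using h

theorem a_mem : P.a ∈ P.D := P.mem_D.2 ⟨1, by group⟩

theorem tp_injective : Function.Injective P.tp := fun i j h => by
  have h' := (P.conj_eq_iff _ _).1 h
  rwa [(P.trans i).choose_spec, (P.trans j).choose_spec] at h'

theorem tp_surj {x : G} (hx : x ∈ P.D) : ∃ j, P.tp j = x := by
  obtain ⟨g, rfl⟩ := P.mem_D.1 hx
  exact ⟨_, P.tp_phi g⟩

theorem D_eq : P.D = Set.range P.tp := by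
  ext x
  exact ⟨fun h => P.tp_surj h, fun ⟨j, hj⟩ => hj ▸ P.tp_mem j⟩

theorem ncard_D : P.D.ncard = N := by
  rw [D_eq, ← Set.image_univ, Set.ncard_image_of_injective _ P.tp_injective, Set.ncard_univ, Nat.card_fin]

theorem tp_ne_one (j : Fin N) : P.tp j ≠ 1 := fun h => P.a_ne (conj_eq_one_iff.1 h)

theorem conj_mem (g : G) {x : G} (hx : x ∈ P.D) : g * x * g⁻¹ ∈ P.D := by
  obtain ⟨h, rfl⟩ := P.mem_D.1 hx
  exact P.mem_D.2 ⟨g * h, by group⟩

theorem conj_tp (g : G) (j : Fin N) : g * P.tp j * g⁻¹ = P.tp (P.φ g j) := by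
  obtain ⟨h, rfl⟩ := P.trans j
  rw [P.tp_phi, ← Equiv.Perm.mul_apply, ← map_mul, P.tp_phi]
  group

theorem commute_tp_iff (g : G) (j : Fin N) : Commute g (P.tp j) ↔ P.φ g j = j := by
  rw [← P.tp_injective.eq_iff, ← P.conj_tp, mul_inv_eq_iff_eq_mul]
  exact Iff.rfl

theorem cls : ∀ x ∈ P.D, ∀ y ∈ P.D, ∃ g : G, g * x * g⁻¹ = y := by
  intro x hx y hy
  obtain ⟨g, rfl⟩ := P.mem_D.1 hx
  obtain ⟨h, rfl⟩ := P.mem_D.1 hy
  exact ⟨h * g⁻¹, by group⟩

theorem orderOf_eq_two {x : G} (hx : x ∈ P.D) : orderOf x = 2 := by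
  obtain ⟨g, rfl⟩ := P.mem_D.1 hx
  rw [← MulAut.conj_apply, MulEquiv.orderOf_eq]
  exact orderOf_eq_prime (by rw [pow_two, P.a_sq]) P.a_ne

theorem centralizer_eq : ∀ g : G, g ∈ Subgroup.centralizer ({P.a} : Set G) ↔ P.φ g P.o = P.o := fun g => by
  rw [Subgroup.mem_centralizer_singleton_iff]
  exact ⟨fun h => P.fix g h, fun h => P.stab g h⟩

/-- A normal subgroup containing a member contains the class; a simple group is generated by it. -/
theorem closure_D [IsSimpleGroup G] : Subgroup.closure P.D = ⊤ := by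
  refine ((IsSimpleGroup.eq_bot_or_eq_top_of_normal _ ⟨fun x hx g => ?_⟩).resolve_left fun h => P.a_ne ?_)
  · have : (Subgroup.closure P.D).map (MulAut.conj g).toMonoidHom ≤ Subgroup.closure P.D := by
      rw [MonoidHom.map_closure, Subgroup.closure_le]
      rintro _ ⟨y, hy, rfl⟩
      exact Subgroup.subset_closure (P.conj_mem g hy)
    exact this ⟨x, hx, rfl⟩
  · rw [← Subgroup.mem_bot, ← h]
    exact Subgroup.subset_closure P.a_mem

/-- Two suborbits meeting each other: orders of products. -/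
theorem threeSet_of_reps {O₁ O₂ : Fin N → Prop} {g₁ g₂ : G} (hcov : ∀ j, j = P.o ∨ O₁ j ∨ O₂ j)
    (h₁ : ∀ j, O₁ j → ∃ h, P.φ h P.o = P.o ∧ P.φ h (P.φ g₁ P.o) = j)
    (h₂ : ∀ j, O₂ j → ∃ h, P.φ h P.o = P.o ∧ P.φ h (P.φ g₂ P.o) = j)
    (hp₁ : (P.a * (g₁ * P.a * g₁⁻¹)) ^ 2 = 1) (hp₂ : (P.a * (g₂ * P.a * g₂⁻¹)) ^ 3 = 1) :
    Cfsg.IsThreeTranspositionSet P.D := by
  refine ⟨fun x hx => P.orderOf_eq_two hx, fun x hx y hy => ?_⟩
  obtain ⟨g, rfl⟩ := P.mem_D.1 hx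
  obtain ⟨j, rfl⟩ := P.tp_surj hy
  have key : ∀ i, (P.a * P.tp i) ^ 2 = 1 ∨ (P.a * P.tp i) ^ 3 = 1 := by
    have mv : ∀ (g₀ : G) (i : Fin N), (∃ h, P.φ h P.o = P.o ∧ P.φ h (P.φ g₀ P.o) = i) → ∀ n : ℕ,
        (P.a * (g₀ * P.a * g₀⁻¹)) ^ n = 1 → (P.a * P.tp i) ^ n = 1 := by
      rintro g₀ i ⟨h, ho, rfl⟩ n hn
      have ha : h * P.a * h⁻¹ = P.a := by rw [(P.stab h ho).eq, mul_inv_cancel_right]
      have e : P.a * P.tp (P.φ h (P.φ g₀ P.o)) = h * (P.a * (g₀ * P.a * g₀⁻¹)) * h⁻¹ := by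
        rw [← P.conj_tp, P.tp_phi, ← mul_assoc h P.a]
        nth_rw 1 [← ha]
        group
      rw [e, conj_pow, hn, mul_one, mul_inv_cancel]
    intro i
    rcases hcov i with rfl | h | h
    · left; rw [P.tp_o, P.a_sq, one_pow]
    · exact Or.inl (mv g₁ i (h₁ i h) 2 hp₁)
    · exact Or.inr (mv g₂ i (h₂ i h) 3 hp₂)
  have e : g * P.a * g⁻¹ * P.tp j = g * (P.a * P.tp (P.φ g⁻¹ j)) * g⁻¹ := by
    rw [← P.conj_tp]; group
  rw [e, conj_pow, conj_pow]
  rcases key (P.φ g⁻¹ j) with h | h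
  · left; rw [h, mul_one, mul_inv_cancel]
  · right; rw [h, mul_one, mul_inv_cancel]

/-- Two suborbits meeting each other: primitivity. -/
theorem primitive_of_reps {O₁ O₂ : Fin N → Prop} {g₁ g₂ : G} (hcov : ∀ j, j = P.o ∨ O₁ j ∨ O₂ j)
    (hN : 1 < N)
    (h₁ : ∀ j, O₁ j → ∃ h, P.φ h P.o = P.o ∧ P.φ h (P.φ g₁ P.o) = j)
    (h₂ : ∀ j, O₂ j → ∃ h, P.φ h P.o = P.o ∧ P.φ h (P.φ g₂ P.o) = j)
    (r₁ : O₁ (P.φ g₁ P.o)) (r₂ : O₂ (P.φ g₂ P.o))
    (s₁ : ∃ j, O₁ j ∧ O₂ (P.φ g₁ j)) (s₂ : ∃ j, O₂ j ∧ O₁ (P.φ g₂ j)) :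
    Cfsg.IsPrimitiveUnderConj P.D := by
  refine ⟨P.cls, ?_, fun B hB hblk => ?_⟩
  · exact ⟨_, P.tp_mem ⟨0, by omega⟩, _, P.tp_mem ⟨1, hN⟩, fun h => by
      simpa using P.tp_injective h⟩
  by_cases hs : B.Subsingleton
  · exact Or.inl hs
  right
  obtain ⟨x, hx, y, hy, hxy⟩ := Set.not_subsingleton_iff.1 hs
  obtain ⟨g, hg⟩ := P.mem_D.1 (hB hx)
  set C : Set G := (fun z => g⁻¹ * z * g⁻¹⁻¹) '' B with hC
  -- `C` is a block through the base member
  have hCD : C ⊆ P.D := by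
    rintro _ ⟨z, hz, rfl⟩
    exact P.conj_mem _ (hB hz)
  have hCblk : ∀ k : G, ((fun z => k * z * k⁻¹) '' C) = C ∨ Disjoint ((fun z => k * z * k⁻¹) '' C) C := by
    intro k
    have e1 : (fun z => k * z * k⁻¹) '' C = (fun z => g⁻¹ * z * g⁻¹⁻¹) '' ((fun z => g * k * g⁻¹ * z * (g * k * g⁻¹)⁻¹) '' B) := by
      rw [hC, Set.image_image, Set.image_image]
      refine Set.image_congr fun z _ => by group
    rcases hblk (g * k * g⁻¹) with h | h
    · left; rw [e1, h]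
    · right
      rw [e1, hC]
      exact Set.disjoint_image_of_injective (fun u v huv => by
        simpa using huv) h
  have haC : P.a ∈ C := ⟨x, hx, by rw [← hg]; group⟩
  have same : ∀ k : G, ∀ z ∈ C, k * z * k⁻¹ ∈ C → ∀ w ∈ C, k * w * k⁻¹ ∈ C := by
    intro k z hz hkz w hw
    rcases hCblk k with h | h
    · rw [← h]; exact ⟨w, hw, rfl⟩
    · exact absurd hkz (Set.disjoint_left.1 h ⟨z, hz, rfl⟩)
  -- invariance under the stabiliser
  have inv : ∀ h : G, P.φ h P.o = P.o → ∀ i, P.tp i ∈ C → P.tp (P.φ h i) ∈ C := by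
    intro h ho i hi
    have ha : h * P.a * h⁻¹ = P.a := by rw [(P.stab h ho).eq, mul_inv_cancel_right]
    rw [← P.conj_tp]
    exact same h P.a haC (by rw [ha]; exact haC) _ hi
  -- the stabiliser acts transitively on each of the two pieces
  have full : ∀ (O : Fin N → Prop) (g₀ : G),
      (∀ j, O j → ∃ h, P.φ h P.o = P.o ∧ P.φ h (P.φ g₀ P.o) = j) → ∀ i, O i → P.tp i ∈ C →
        ∀ j, O j → P.tp j ∈ C := by
    intro O g₀ hO i hi hiC j hj
    obtain ⟨h, ho, rfl⟩ := hO i hi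
    obtain ⟨h', ho', rfl⟩ := hO j hj
    have := inv (h' * h⁻¹) (by
      rw [map_mul, Equiv.Perm.mul_apply, map_inv, Equiv.Perm.inv_def, (Equiv.symm_apply_eq _).2 ho.symm, ho'])
      _ hiC
    simpa [map_mul, Equiv.Perm.mul_apply] using this
  have spread : ∀ g₀ : G, P.tp (P.φ g₀ P.o) ∈ C → ∀ i, P.tp i ∈ C → P.tp (P.φ g₀ i) ∈ C := by
    intro g₀ hg₀ i hi
    rw [← P.conj_tp]
    exact same g₀ P.a haC (by rw [← P.tp_phi]; exact hg₀) _ hi
  have all : ∀ j, P.tp j ∈ C := by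
    have one : (∀ j, O₁ j → P.tp j ∈ C) → ∀ j, P.tp j ∈ C := fun H => by
      obtain ⟨i, hi, hi'⟩ := s₁
      have H₂ := full O₂ g₂ h₂ _ hi' (spread g₁ (H _ r₁) i (H i hi))
      intro j
      rcases hcov j with rfl | h | h
      · rw [P.tp_o]; exact haC
      · exact H j h
      · exact H₂ j h
    have two : (∀ j, O₂ j → P.tp j ∈ C) → ∀ j, P.tp j ∈ C := fun H => by
      obtain ⟨i, hi, hi'⟩ := s₂
      exact one (full O₁ g₁ h₁ _ hi' (spread g₂ (H _ r₂) i (H i hi)))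
    obtain ⟨i, hi⟩ := P.tp_surj (hCD ⟨y, hy, rfl⟩)
    have hiC : P.tp i ∈ C := hi ▸ ⟨y, hy, rfl⟩
    rcases hcov i with rfl | h | h
    · refine absurd ?_ hxy
      rw [P.tp_o] at hi
      rw [← hg, hi]
      group
    · exact one (full O₁ g₁ h₁ i h hiC)
    · exact two (full O₂ g₂ h₂ i h hiC)
  refine Set.Subset.antisymm hB fun z hz => ?_
  obtain ⟨j, hj⟩ := P.tp_surj (P.conj_mem g⁻¹ hz)
  obtain ⟨w, hw, hw'⟩ := all j
  rw [hj] at hw'
  have : w = z := by simpa using hw'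
  exact this ▸ hw

end PointClass

end CfsgLib.ThreeTrans.Inst
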