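import Cfsg.Agent.Lib.ThreeTrans.Inst.FiTwentyTwoType
import Cfsg.Agent.Lib.Presented.Fi22Unitary.Cover
import Cfsg.Agent.Lib.ThreeTrans.Uniq.Top

/-! The presented group is a group of type M(22), and every group of that type is isomorphic to it. -/

set_option autoImplicit false

namespace CfsgLib.ThreeTrans.Inst.FiTwentyTwo

theorem typeM22 : Cfsg.IsOfTypeM22 Cfsg.Spor.Fi22 D := by
  let _ : Fintype (GaloisField 2 2) := Fintype.ofFinite _
  have hF : Fintype.card (GaloisField 2 2) = 2 ^ 2 := by
    rw [← Nat.card_eq_fintype_card, GaloisField.card 2 2 (by norm_num)]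
  exact isOfType (hF.trans (by norm_num)) (CfsgLib.Presented.Fi22Unitary.doubleCover hF)

theorem finite_fi22 : Finite Cfsg.Spor.Fi22 :=
  Nat.finite_of_card_ne_zero (by rw [CfsgLib.Presented.Fi22Order.card_eq]; norm_num)

/-- A group of type M(22) is the presented group, with the same class. -/
theorem exists_equiv {G : Type*} [Group G] [Finite G] {D' : Set G} (hD : Cfsg.IsThreeTranspositionGroup D')
    (hprim : Cfsg.IsPrimitiveUnderConj D') (h : Cfsg.IsOfTypeM22 G D') :
    ∃ e : Cfsg.Spor.Fi22 ≃* G, e '' D = D' :=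
  haveI := finite_fi22
  CfsgLib.ThreeTrans.Uniq.iso_type22 isGroup primitive typeM22 hD hprim h

end CfsgLib.ThreeTrans.Inst.FiTwentyTwo
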