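import Mathlib
import Cfsg.Prelude.Def_FischerSpaces

/-! The type conditions are invariant under isomorphisms respecting the classes. -/

set_option autoImplicit false

namespace CfsgLib.ThreeTrans.Inst

universe u v

variable {G : Type u} [Group G] {G' : Type v} [Group G']

theorem center_congr {A : Type u} [Group A] {B : Type v} [Group B] (e : A ≃* B) :
    (Subgroup.center A).map e.toMonoidHom = Subgroup.center B := by
  ext x
  constructor
  · rintro ⟨y, hy, rfl⟩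
    refine Subgroup.mem_center_iff.2 fun w => e.symm.injective ?_
    simpa using Subgroup.mem_center_iff.1 hy (e.symm w)
  · intro hx
    refine ⟨e.symm x, Subgroup.mem_center_iff.2 fun w => e.injective ?_, e.apply_symm_apply x⟩
    simpa using Subgroup.mem_center_iff.1 hx (e w)

theorem closure_quot_congr (e : G ≃* G') {S : Set G} {S' : Set G'} (h : e '' S = S') :
    Nonempty (↥(Subgroup.closure S) ⧸ Subgroup.center ↥(Subgroup.closure S) ≃*
      ↥(Subgroup.closure S') ⧸ Subgroup.center ↥(Subgroup.closure S')) := by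
  have hm : (Subgroup.closure S).map e.toMonoidHom = Subgroup.closure S' := by
    rw [MonoidHom.map_closure, ← h]; rfl
  exact ⟨QuotientGroup.congr _ _ ((e.subgroupMap _).trans (MulEquiv.subgroupCongr hm)) (center_congr _)⟩

theorem image_nbrs (e : G ≃* G') {D : Set G} {D' : Set G'} (h : e '' D = D') (d : G) :
    e '' {y : G | y ∈ D ∧ y ≠ d ∧ Commute d y} = {y : G' | y ∈ D' ∧ y ≠ e d ∧ Commute (e d) y} := by
  subst h
  ext z
  constructor
  · rintro ⟨y, ⟨h1, h2, h3⟩, rfl⟩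
    exact ⟨⟨y, h1, rfl⟩, fun he => h2 (e.injective he), h3.map e⟩
  · rintro ⟨⟨y, h1, rfl⟩, h2, h3⟩
    exact ⟨y, ⟨h1, fun he => h2 (by rw [he]), (Commute.map h3 e.symm.toMonoidHom |> fun h => by simpa using h)⟩, rfl⟩

theorem typeM22_map (e : G ≃* G') {D : Set G} {D' : Set G'} (h : e '' D = D')
    (h22 : Cfsg.IsOfTypeM22 G D) : Cfsg.IsOfTypeM22 G' D' := by
  obtain ⟨hZ, d, hd, c, hc, hdc, ⟨F, iF, iF', hF, ⟨eF⟩⟩, c₃, hc₃, Q, hQ, hdisc, ⟨eQ⟩⟩ := h22
  refine ⟨?_, e d, h ▸ ⟨d, hd, rfl⟩, e c, h ▸ ⟨c, hc, rfl⟩,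
    fun hcm => hdc (by simpa using Commute.map hcm e.symm.toMonoidHom), ⟨F, iF, iF', hF, ?_⟩, c₃, hc₃, Q, hQ, hdisc, ?_⟩
  · rw [← center_congr e, hZ, Subgroup.map_bot]
  · obtain ⟨e₁⟩ := closure_quot_congr e (image_nbrs e h d)
    exact ⟨e₁.symm.trans eF⟩
  · obtain ⟨e₁⟩ := closure_quot_congr e (S := {y : G | y ∈ D ∧ y ≠ d ∧ Commute d y} ∩ {y : G | y ∈ D ∧ y ≠ c ∧ Commute c y})
      (S' := {y : G' | y ∈ D' ∧ y ≠ e d ∧ Commute (e d) y} ∩ {y : G' | y ∈ D' ∧ y ≠ e c ∧ Commute (e c) y})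
      (by rw [Set.image_inter e.injective, image_nbrs e h, image_nbrs e h])
    exact ⟨e₁.symm.trans eQ⟩

end CfsgLib.ThreeTrans.Inst
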