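import Cfsg.Agent.Lib.ThreeTrans.Inst.FiTwentyThreePair
import Cfsg.Agent.Lib.ThreeTrans.Inst.FiTwentyTwoModel
import Cfsg.Agent.Lib.ThreeTrans.Inst.TypeTransport

/-! The presented group on 31671 transpositions is of type M(23). -/

set_option autoImplicit false
set_option maxRecDepth 8000

namespace CfsgLib.ThreeTrans.Inst.FiTwentyThree

open CfsgLib.Presented
open CfsgLib.Presented.Fi23Cosets (ev phi phi_ev hWords)
open Fi23Cert (rep alphabet)

/-- the neighbours of the base member -/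
noncomputable abbrev nbrs : Set Cfsg.Spor.Fi23 := {y | y ∈ D ∧ y ≠ a ∧ Commute a y}

theorem nbrs_le : Subgroup.closure nbrs ≤ Fi23Cosets.H := by
  rw [Subgroup.closure_le]
  rintro y ⟨-, -, hc⟩
  exact mem_H_of_fix (fix y hc.symm)

theorem letter_mem_nbrs {w : List ℕ} (hw : w ∈ hWords) : evW ev w ∈ nbrs := by
  have key : ∀ i : Fin 10, i ≠ 7 → maskA.testBit (lp i : ℕ) = true ∧ lp i ≠ o := by decide +kernel
  obtain ⟨i, hi, rfl⟩ : ∃ i : Fin 10, i ≠ 7 ∧ w = [(i : ℕ)] := by
    revert w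
    decide
  obtain ⟨h1, h2⟩ := key i hi
  rw [letter_eq]
  exact ⟨P.tp_mem _, fun he => h2 (P.tp_injective (he.trans P.tp_o.symm)), (commute_a_iff _).2 (Or.inr h1)⟩

theorem closure_nbrs_eq : Subgroup.closure nbrs = Fi23Cosets.H := by
  refine le_antisymm nbrs_le ?_
  rw [Fi23Cosets.H_eq, Subgroup.closure_le]
  rintro _ ⟨w, hw, rfl⟩
  exact Subgroup.subset_closure (letter_mem_nbrs hw)

/-- onto the group on 3510 transpositions -/
noncomputable def toTwentyTwo : ↥(Subgroup.closure nbrs) →* Cfsg.Spor.Fi22 :=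
  Fi23Simple.toFi22.comp (MulEquiv.subgroupCongr closure_nbrs_eq).toMonoidHom

theorem toTwentyTwo_surjective : Function.Surjective toTwentyTwo :=
  Fi23Simple.toFi22_surjective.comp (MulEquiv.subgroupCongr closure_nbrs_eq).surjective

theorem ker_toTwentyTwo : toTwentyTwo.ker = Subgroup.center ↥(Subgroup.closure nbrs) := by
  ext x
  rw [toTwentyTwo, MonoidHom.mem_ker, MonoidHom.comp_apply, ← MonoidHom.mem_ker, ← Fi23Simple.center_eq,
    Subgroup.mem_center_iff, Subgroup.mem_center_iff]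
  constructor
  · intro h g
    exact (MulEquiv.subgroupCongr closure_nbrs_eq).injective (by simpa using h (MulEquiv.subgroupCongr closure_nbrs_eq g))
  · intro h g
    obtain ⟨g, rfl⟩ := (MulEquiv.subgroupCongr closure_nbrs_eq).surjective g
    have := congrArg (MulEquiv.subgroupCongr closure_nbrs_eq) (h g)
    simpa using this

theorem toFi22_a : Fi23Simple.toFi22 ⟨_, Fi23Simple.a_mem⟩ = FiTwentyTwo.a := by
  apply Fi22Order.phi_injective
  have h1 : Fi22UCosets.phi (Fi23Simple.toFi22 ⟨_, Fi23Simple.a_mem⟩) = Fi23Simple.psi ⟨_, Fi23Simple.a_mem⟩ :=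
    MonoidHom.apply_ofInjective_symm Fi22Order.phi_injective _
  rw [h1, Fi23Simple.hom_small (g := ⟨_, Fi23Simple.a_mem⟩) (w := [0]) (by decide +kernel)
    (congrArg (evW ev) (show [0] = _ by decide +kernel)) (by decide +kernel), FiTwentyTwo.a,
    FiTwentyTwo.phi_evW (by decide +kernel)]

theorem zero_mem_nbrs : evW ev [0] ∈ nbrs := letter_mem_nbrs (w := [0]) (by decide)

/-- The images of the neighbours are the transpositions. -/
theorem image_nbrs_eq :
    toTwentyTwo '' {x : ↥(Subgroup.closure nbrs) | (x : Cfsg.Spor.Fi23) ∈ nbrs} = FiTwentyTwo.D := by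
  have hval : toTwentyTwo ⟨_, Subgroup.subset_closure zero_mem_nbrs⟩ = FiTwentyTwo.a := toFi22_a
  ext y
  constructor
  · rintro ⟨⟨x, hxc⟩, ⟨hx, hne, hc⟩, rfl⟩
    obtain ⟨j, rfl⟩ := P.tp_surj hx
    have hA : maskA.testBit (j : ℕ) = true := ((commute_a_iff j).1 hc).resolve_left fun e => hne (e ▸ P.tp_o)
    have h0 : maskA.testBit (lp 0 : ℕ) = true := by decide +kernel
    obtain ⟨k, hk, hkj⟩ := reachA h0 hA
    have hkH : k ∈ Subgroup.closure nbrs := closure_nbrs_eq ▸ mem_H_of_fix hk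
    refine FiTwentyTwo.P.mem_D.2 ⟨toTwentyTwo ⟨k, hkH⟩, ?_⟩
    rw [show FiTwentyTwo.P.a = FiTwentyTwo.a from rfl, ← hval, ← map_inv, ← map_mul, ← map_mul]
    refine congrArg toTwentyTwo (Subtype.ext ?_)
    show k * evW ev [0] * k⁻¹ = P.tp j
    rw [show evW ev [0] = P.tp (lp 0) from letter_zero, P.conj_tp]
    exact congrArg P.tp hkj
  · intro hy
    obtain ⟨g, rfl⟩ := FiTwentyTwo.P.mem_D.1 hy
    obtain ⟨⟨k, hk⟩, rfl⟩ := toTwentyTwo_surjective g
    refine ⟨⟨k, hk⟩ * ⟨_, Subgroup.subset_closure zero_mem_nbrs⟩ * ⟨k, hk⟩⁻¹, ?_, ?_⟩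
    · obtain ⟨h1, h2, h3⟩ := zero_mem_nbrs
      have ha : k * a * k⁻¹ = a := by
        rw [(commute_a (closure_nbrs_eq ▸ hk)).eq, mul_inv_cancel_right]
      refine ⟨P.conj_mem k h1, fun he => h2 ?_, ?_⟩
      · conv_rhs at he => rw [← ha]
        exact mul_left_cancel (mul_right_cancel he)
      · show Commute a (k * evW ev [0] * k⁻¹)
        rw [← ha]
        exact (CfsgLib.ThreeTrans.commute_conj_iff k _ _).2 h3
    · rw [map_mul, map_mul, map_inv, hval]
      rfl

theorem center_bot : Subgroup.center Cfsg.Spor.Fi23 = ⊥ := by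
  have := Fi23Simple.simple
  refine (Subgroup.Normal.eq_bot_or_eq_top inferInstance).resolve_right fun h => not_commute_gA ?_
  exact (Subgroup.mem_center_iff.1 (h ▸ Subgroup.mem_top a : a ∈ Subgroup.center Cfsg.Spor.Fi23) gA)

theorem not_commute_pb : ¬ Commute a (P.tp pb) := fun h => by
  rcases (commute_a_iff pb).1 h with h1 | h1
  · exact absurd (congrArg Fin.val h1) (by decide)
  · exact Bool.noConfusion (h1.symm.trans common_table.2.1)

/-- the quotient of the centraliser -/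
noncomputable def quotEquiv : ↥(Subgroup.closure nbrs) ⧸ Subgroup.center ↥(Subgroup.closure nbrs) ≃* Cfsg.Spor.Fi22 :=
  (QuotientGroup.quotientMulEquivOfEq ker_toTwentyTwo.symm).trans
    (QuotientGroup.quotientKerEquivOfSurjective toTwentyTwo toTwentyTwo_surjective)

theorem quotEquiv_mk (x : ↥(Subgroup.closure nbrs)) : quotEquiv (x : _ ⧸ _) = toTwentyTwo x := rfl

theorem typeM23 : Cfsg.IsOfTypeM23 Cfsg.Spor.Fi23 D := by
  refine ⟨center_bot, a, P.a_mem, P.tp pb, P.tp_mem _, not_commute_pb, ?_, 1, one_ne_zero, pair_reflection⟩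
  refine typeM22_map quotEquiv.symm ?_ FiTwentyTwo.typeM22
  rw [← image_nbrs_eq]
  ext z
  constructor
  · rintro ⟨_, ⟨x, hx, rfl⟩, rfl⟩
    exact ⟨x, hx, by rw [← quotEquiv_mk, MulEquiv.symm_apply_apply]⟩
  · rintro ⟨x, hx, rfl⟩
    exact ⟨_, ⟨x, hx, rfl⟩, by rw [← quotEquiv_mk, MulEquiv.symm_apply_apply]⟩

theorem finite_fi23 : Finite Cfsg.Spor.Fi23 :=
  Nat.finite_of_card_ne_zero (by rw [Fi23Order.card_eq]; norm_num)

/-- A group of type M(23) is the presented group, with the same class. -/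
theorem exists_equiv {G : Type*} [Group G] [Finite G] {D' : Set G} (hD : Cfsg.IsThreeTranspositionGroup D')
    (hprim : Cfsg.IsPrimitiveUnderConj D') (h : Cfsg.IsOfTypeM23 G D') :
    ∃ e : Cfsg.Spor.Fi23 ≃* G, e '' D = D' :=
  haveI := finite_fi23
  CfsgLib.ThreeTrans.Uniq.iso_type23 isGroup primitive typeM23 hD hprim h

end CfsgLib.ThreeTrans.Inst.FiTwentyThree
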