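import Cfsg.Agent.Lib.Presented.Fi22Simple
import Cfsg.Agent.Lib.ThreeTrans.Inst.PointClass

/-! The presented group on its 3510 transpositions. -/

set_option autoImplicit false
set_option maxRecDepth 8000

namespace CfsgLib.ThreeTrans.Inst.FiTwentyTwo

open CfsgLib.Presented
open CfsgLib.Presented.Fi22UCosets (ev phi phi_ev equiv equiv_smul rep_valid hWords)
open Fi22UCert (rep alphabet cert_ok)

/-- the points commuting with the base point -/
def maskA : ℕ := 0x180000000000000000000000000000900c000000000000200000000000009000000000000009000e000000000000000000050000000000000004b0000000000000026000380000000000000000000120068000000000000001cd80000000000201b0003000000000000009000000003401e1000000000000003bc00000000203c00100000000000000000d800000007803c170000000000000fc00000303c002000000000200000180003e000001e01e83e0000010000f800060f000000020000007000003c0007c0003c0fc03e00018047801c7800000000380000807c0003c01e00787e003c00e09e0670000000000004780008183c00f03c0e7f0021e06271b800000000000000000303c00c00f03c0e38efc0871973600000002180000000000001c0781e071c739be31cdef0000000020718800000000000fc1c71ce6df9bbf8000000010020e3994000000001fc739b7fbff00000000030003c736e0000000fcdbffff8000000014007e6ff000003efffff0000000f803efe0000ffff800001f00ff8003ffc0001d81fc00fe000760f8078007d0703003f430403ff42007fc801ff007c070440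

/-- the points not commuting with the base point -/
def maskB : ℕ := 0x3ffffffffffffffffffffffffffe7ffffffffffffffffffffffffffff6ff3ffffffffffffdfffffffffffff6ffffffffffffff6fff1fffffffffffffffffffafffffffffffffffb4ffffffffffffffd9fffc7fffffffffffffffffffedff97ffffffffffffffe327ffffffffffdfe4fffcffffffffffffff6ffffffffcbfe1effffffffffffffc43ffffffffdfc3ffefffffffffffffffff27fffffff87fc3e8fffffffffffff03fffffcfc3ffdfffffffffdfffffe7fffc1fffffe1fe17c1fffffeffff07fff9f0fffffffdffffff8fffffc3fff83fffc3f03fc1fffe7fb87fe387ffffffffc7ffff7f83fffc3fe1ff8781ffc3ff1f61f98ffffffffffffb87fff7e7c3ff0fc3f180ffde1f9d8e47fffffffffffffffffcfc3ff3ff0fc3f1c7103f78e68c9fffffffde7ffffffffffffe3f87e1f8e38c641ce3210ffffffffdf8e77fffffffffff03e38e3192064407fffffffeffdf1c66bffffffffe038c6480400fffffffffcfffc38c91fffffff032400007fffffffebff81900fffffc100000fffffff07fc101ffff00007ffffe0ff007ffc003fffe27e03ff01fff89f07f87ff82f8fcffc0bcfbfc00bdff8037fe00ff83f8fbbe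

/-- the base point -/
def o : Fin rep.N := ⟨0, VCert.pos cert_ok⟩

theorem phi_evW {w : List ℕ} (hw : ∀ x ∈ w, x < alphabet.eps) : phi (evW ev w) = evW (rep.perm rep_valid) w := by
  simp only [evW, map_list_prod, List.map_map]
  rw [List.map_congr_left (f := ⇑phi ∘ ev) (g := rep.perm rep_valid) fun x hx => phi_ev x (hw x hx)]

theorem phi_word {w : List ℕ} (hw : ∀ x ∈ w, x < alphabet.eps) (i : Fin rep.N) :
    (phi (evW ev w) i : ℕ) = Vec.netPerm (rep.netW w) i := by
  rw [phi_evW hw, Rep.netW_perm rep_valid]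

/-- a word acting trivially is trivial -/
theorem evW_eq_one {w : List ℕ} (hw : rep.relsOK [w] = true) : evW ev w = 1 := by
  have hlt : ∀ x ∈ w, x < alphabet.eps := by
    intro x hx
    simp only [Rep.relsOK, List.all_cons, List.all_nil, Bool.and_true, Bool.and_eq_true, List.all_eq_true,
      Nat.blt_eq] at hw
    exact hw.1 x hx
  refine Fi22Order.phi_injective ?_
  rw [phi_evW hlt, map_one, Rep.evW_eq_one rep_valid hw List.mem_cons_self]

/-- the transposition of the base point -/
noncomputable def a : Cfsg.Spor.Fi22 := evW ev [0]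

theorem evW_cat (u v : List ℕ) : evW ev (u ++ v) = evW ev u * evW ev v := by simp [evW]

theorem a_sq : a * a = 1 := by
  rw [a, ← evW_cat]
  exact evW_eq_one (by decide +kernel)

theorem mem_H_of_fix {g : Cfsg.Spor.Fi22} (h : phi g o = o) : g ∈ Fi22UCosets.H := by
  have h0 : equiv _ = o := Fi22UCosets.exists_equiv.choose_spec.2
  rw [← h0, ← equiv_smul] at h
  exact mem_of_fix (equiv.injective h)

theorem commute_a {g : Cfsg.Spor.Fi22} (hg : g ∈ Fi22UCosets.H) : Commute g a := by
  have key : (hWords.all fun w => rep.relsOK [w ++ [0] ++ w.reverse ++ [0]]) = true ∧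
      (hWords.all fun w => rep.relsOK [w ++ w.reverse]) = true := by decide +kernel
  simp only [List.all_eq_true] at key
  have hmem : Fi22UCosets.H ≤ Subgroup.centralizer ({a} : Set Cfsg.Spor.Fi22) := by
    rw [Fi22UCosets.H_eq, Subgroup.closure_le]
    rintro _ ⟨w, hw, rfl⟩
    refine Subgroup.mem_centralizer_singleton_iff.2 ?_
    have h1 := evW_eq_one (key.1 w hw)
    have h2 := evW_eq_one (key.2 w hw)
    rw [evW_cat, evW_cat, evW_cat] at h1
    rw [evW_cat] at h2
    have hinv : evW ev w.reverse = (evW ev w)⁻¹ := eq_inv_of_mul_eq_one_right h2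
    rw [hinv, ← a] at h1
    calc evW ev w * a = evW ev w * a * (evW ev w)⁻¹ * a * (a * evW ev w) := by
          rw [← mul_assoc (evW ev w * a * (evW ev w)⁻¹ * a) a, mul_assoc _ a a, a_sq, mul_one,
            inv_mul_cancel_right]
      _ = a * evW ev w := by rw [h1, one_mul]
  exact Subgroup.mem_centralizer_singleton_iff.1 (hmem hg)

theorem reach {i : Fin rep.N} {m : ℕ}
    (hm : ∀ q, q ∈ MulAction.orbit Fi22UCosets.H (equiv.symm i) ↔ m.testBit (equiv q : ℕ) = true)
    {p j : Fin rep.N} (hp : m.testBit (p : ℕ) = true) (hj : m.testBit (j : ℕ) = true) :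
    ∃ h, phi h o = o ∧ phi h p = j := by
  have hp' := (hm (equiv.symm p)).2 (by rwa [Equiv.apply_symm_apply])
  have hj' := (hm (equiv.symm j)).2 (by rwa [Equiv.apply_symm_apply])
  rw [← MulAction.orbit_eq_iff.2 hp'] at hj'
  obtain ⟨h, hh⟩ := hj'
  refine ⟨(h : Cfsg.Spor.Fi22), Fi22UCosets.H_fix _ h.2, ?_⟩
  have := congrArg equiv hh
  rwa [show (fun m : Fi22UCosets.H => m • equiv.symm p) h = (h : Cfsg.Spor.Fi22) • equiv.symm p from rfl, equiv_smul,
    Equiv.apply_symm_apply, Equiv.apply_symm_apply] at this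

theorem reachA {p j : Fin rep.N} (hp : maskA.testBit (p : ℕ) = true) (hj : maskA.testBit (j : ℕ) = true) :
    ∃ h, phi h o = o ∧ phi h p = j := reach Fi22UCosets.orbitA_mem hp hj

theorem reachB {p j : Fin rep.N} (hp : maskB.testBit (p : ℕ) = true) (hj : maskB.testBit (j : ℕ) = true) :
    ∃ h, phi h o = o ∧ phi h p = j := reach Fi22UCosets.orbitB_mem hp hj

theorem cover : ∀ j : Fin rep.N, j = o ∨ maskA.testBit (j : ℕ) = true ∨ maskB.testBit (j : ℕ) = true := by
  have h : Nat.beq (Nat.lor (Nat.lor 1 maskA) maskB) (Vec.ones rep.N) = true := by decide +kernel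
  intro j
  have hb := congrArg (fun n => n.testBit (j : ℕ)) (Nat.eq_of_beq_eq_true h)
  simp only [Vec.testBit_ones, j.2, decide_true] at hb
  rw [show Nat.lor (Nat.lor 1 maskA) maskB = (1 ||| maskA) ||| maskB from rfl, Nat.testBit_or, Nat.testBit_or,
    Bool.or_eq_true, Bool.or_eq_true, or_assoc] at hb
  refine hb.imp_left fun h1 => Fin.ext ?_
  exact VCert.one_bit h1

/-- the representative of the commuting suborbit -/
noncomputable def gA : Cfsg.Spor.Fi22 := evW ev [1, 2, 0, 1]

/-- the representative of the other suborbit -/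
noncomputable def gB : Cfsg.Spor.Fi22 := evW ev [0, 1]

theorem gA_o : phi gA o = ⟨6, by decide⟩ := Fin.ext (by rw [gA, phi_word (by decide)]; decide +kernel)

theorem gB_o : phi gB o = ⟨2, by decide⟩ := Fin.ext (by rw [gB, phi_word (by decide)]; decide +kernel)

theorem gA_bit : maskA.testBit (phi gA o : ℕ) = true := by rw [gA_o]; decide +kernel

theorem gB_bit : maskB.testBit (phi gB o : ℕ) = true := by rw [gB_o]; decide +kernel

theorem not_commute_gA : ¬ Commute gA a := by
  intro h
  have h' := DFunLike.congr_fun (congrArg phi h.eq) ⟨1, by decide⟩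
  rw [gA, a, ← evW_cat, ← evW_cat] at h'
  have := congrArg Fin.val h'
  rw [phi_word (by decide), phi_word (by decide)] at this
  exact absurd this (by decide +kernel)

theorem not_commute_gB : ¬ Commute gB a := by
  intro h
  have h' := DFunLike.congr_fun (congrArg phi h.eq) o
  rw [gB, a, ← evW_cat, ← evW_cat] at h'
  have := congrArg Fin.val h'
  rw [phi_word (by decide), phi_word (by decide)] at this
  exact absurd this (by decide +kernel)

theorem fix (g : Cfsg.Spor.Fi22) (hg : Commute g a) : phi g o = o := by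
  rcases cover (phi g o) with h | h | h
  · exact h
  · obtain ⟨k, hk, hk'⟩ := reachA gA_bit h
    have hfix : phi ((k * gA)⁻¹ * g) o = o := by
      rw [map_mul, Equiv.Perm.mul_apply, ← hk', map_inv, map_mul, ← Equiv.Perm.mul_apply (phi k),
        Equiv.Perm.inv_def, Equiv.symm_apply_apply]
    have h1 : Commute ((k * gA)⁻¹ * g) a := commute_a (mem_H_of_fix hfix)
    refine absurd ?_ not_commute_gA
    have h2 : Commute (k * gA) a := by
      have := (hg.mul_left h1.inv_left)
      simpa using this
    simpa using (commute_a (mem_H_of_fix hk)).inv_left.mul_left h2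
  · obtain ⟨k, hk, hk'⟩ := reachB gB_bit h
    have hfix : phi ((k * gB)⁻¹ * g) o = o := by
      rw [map_mul, Equiv.Perm.mul_apply, ← hk', map_inv, map_mul, ← Equiv.Perm.mul_apply (phi k),
        Equiv.Perm.inv_def, Equiv.symm_apply_apply]
    have h1 : Commute ((k * gB)⁻¹ * g) a := commute_a (mem_H_of_fix hfix)
    refine absurd ?_ not_commute_gB
    have h2 : Commute (k * gB) a := by
      have := (hg.mul_left h1.inv_left)
      simpa using this
    simpa using (commute_a (mem_H_of_fix hk)).inv_left.mul_left h2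

theorem a_ne : a ≠ 1 := fun h => not_commute_gA (h ▸ Commute.one_right gA)

/-- The transpositions as points. -/
noncomputable def P : PointClass Cfsg.Spor.Fi22 rep.N where
  φ := phi
  o := o
  a := a
  a_ne := a_ne
  a_sq := a_sq
  inj := Fi22Order.phi_injective
  trans := Fi22Simple.transitive
  stab g h := commute_a (mem_H_of_fix h)
  fix := fix

/-- The class of transpositions. -/
noncomputable abbrev D : Set Cfsg.Spor.Fi22 := P.D

theorem threeSet : Cfsg.IsThreeTranspositionSet D := by
  refine P.threeSet_of_reps (O₁ := fun j => maskA.testBit (j : ℕ) = true)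
    (O₂ := fun j => maskB.testBit (j : ℕ) = true) (g₁ := gA) (g₂ := gB) cover
    (fun j hj => reachA gA_bit hj) (fun j hj => reachB gB_bit hj) ?_ ?_
  · show (a * (gA * a * gA⁻¹)) ^ 2 = 1
    have hinv : gA⁻¹ = evW ev [1, 0, 2, 1] := inv_eq_of_mul_eq_one_right (by
      rw [gA, ← evW_cat]; exact evW_eq_one (by decide +kernel))
    rw [hinv, gA, a, ← evW_cat, ← evW_cat, ← evW_cat, pow_two, ← evW_cat]
    exact evW_eq_one (by decide +kernel)
  · show (a * (gB * a * gB⁻¹)) ^ 3 = 1
    have hinv : gB⁻¹ = evW ev [1, 0] := inv_eq_of_mul_eq_one_right (by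
      rw [gB, ← evW_cat]; exact evW_eq_one (by decide +kernel))
    rw [hinv, gB, a, ← evW_cat, ← evW_cat, ← evW_cat, pow_three', ← evW_cat, ← evW_cat]
    exact evW_eq_one (by decide +kernel)

theorem primitive : Cfsg.IsPrimitiveUnderConj D := by
  refine P.primitive_of_reps (O₁ := fun j => maskA.testBit (j : ℕ) = true)
    (O₂ := fun j => maskB.testBit (j : ℕ) = true) (g₁ := gA) (g₂ := gB) cover (by decide)
    (fun j hj => reachA gA_bit hj) (fun j hj => reachB gB_bit hj) gA_bit gB_bit
    ⟨⟨10, by decide⟩, by decide +kernel, ?_⟩ ⟨⟨4, by decide⟩, by decide +kernel, ?_⟩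
  · show maskB.testBit (phi gA _ : ℕ) = true
    rw [gA, phi_word (by decide)]
    decide +kernel
  · show maskA.testBit (phi gB _ : ℕ) = true
    rw [gB, phi_word (by decide)]
    decide +kernel

theorem isGroup : Cfsg.IsThreeTranspositionGroup D := by
  have : IsSimpleGroup Cfsg.Spor.Fi22 := Fi22Simple.simple
  exact ⟨threeSet, fun g _ hd => P.conj_mem g hd, P.closure_D⟩

theorem isClass : Cfsg.IsThreeTranspositionClass D :=
  ⟨threeSet, ⟨P.a, P.a_mem, rfl⟩, isGroup.2.2⟩

theorem ncard_D : D.ncard = 3510 := P.ncard_D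

end CfsgLib.ThreeTrans.Inst.FiTwentyTwo
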