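import Cfsg.Agent.Lib.ThreeTrans.Inst.FiTwentyThreePairData

/-! The vectors of the pair up to sign. -/

set_option autoImplicit false
set_option maxRecDepth 8000
set_option maxHeartbeats 2000000

namespace CfsgLib.ThreeTrans.Inst.FiTwentyThree

open CfsgLib.Presented
open CfsgLib.Presented.Fi23Cosets (ev phi phi_ev rep_valid)
open Fi23Cert (rep alphabet)

theorem vec_cover_idx : ∀ v : Fin 7 → ZMod 3, qf v = 1 → vec (vecIdx v) = v ∨ vec (vecIdx v) = -v := by
  decide +kernel

theorem vec_cover (v : Fin 7 → ZMod 3) (h : qf v = 1) : ∃ k, vec k = v ∨ vec k = -v :=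
  ⟨_, vec_cover_idx v h⟩

theorem vec_idx : ∀ k, vecIdx (vec k) = k ∧ vecIdx (-vec k) = k := by decide +kernel

theorem vec_sign (k l : Fin 351) (h : vec l = vec k ∨ vec l = -vec k) : k = l := by
  rcases h with h | h
  · exact (vec_idx k).1.symm.trans ((congrArg vecIdx h.symm).trans (vec_idx l).1)
  · exact (vec_idx k).2.symm.trans ((congrArg vecIdx h.symm).trans (vec_idx l).1)

end CfsgLib.ThreeTrans.Inst.FiTwentyThree
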