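import Cfsg.Agent.Lib.ThreeTrans.Inst.FiTwentyThreePairData

/-! The points of the pair. -/

set_option autoImplicit false
set_option maxRecDepth 8000
set_option maxHeartbeats 2000000

namespace CfsgLib.ThreeTrans.Inst.FiTwentyThree

open CfsgLib.Presented
open CfsgLib.Presented.Fi23Cosets (ev phi phi_ev rep_valid)
open Fi23Cert (rep alphabet)

theorem pt_injective : Function.Injective pt := by
  have h : ∀ k : Fin 350, (pt k.castSucc : ℕ) < (pt k.succ : ℕ) := by decide +kernel
  exact (Fin.strictMono_iff_lt_succ.2 h).injective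

/-- the images of the common points on the slices -/
noncomputable def moveOK (l : List Vec.Stage) (ps : List (ℕ × ℕ)) : Bool :=
  (Vec.slices 15).all fun s => Vec.force (Vec.applyNet l s) fun T => ps.all fun p => T.testBit p.1 == s.testBit p.2

theorem move_table : (List.range 8).all (fun i => moveOK (rep.netW [genLetters.getD i 0])
    ((List.range 351).map fun k => (ptN k, ptN (permN i k)))) = true := by
  decide +kernel

theorem gen_facts : (∀ i : Fin 8, (lg i : ℕ) = genLetters.getD i 0) ∧
    (List.range 8).all (fun i => (List.range 351).all fun k => Nat.blt (permN i k) 351) = true ∧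
    pairPts.length = 351 ∧ (pairPts.all fun x => Nat.blt x rep.N) = true := by decide +kernel

theorem ptN_table : ∀ k : Fin 351, ptN k = pairPts.getD k 0 := by decide +kernel

theorem pt_val (k : Fin 351) : (pt k : ℕ) = pairPts.getD k 0 := by
  have hk : (k : ℕ) < pairPts.length := lt_of_lt_of_eq k.2 gen_facts.2.2.1.symm
  show pairPts.getD k 0 % rep.N = _
  refine Nat.mod_eq_of_lt ?_
  rw [List.getD_eq_getElem _ _ hk]
  have hb := List.all_eq_true.1 gen_facts.2.2.2 _ (List.getElem_mem hk)
  rwa [Nat.blt_eq] at hb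

theorem step_pt (i : Fin 8) (k : Fin 351) :
    Vec.netPerm (rep.netW [(lg i : ℕ)]) (pt k : ℕ) = (pt (sig i k) : ℕ) := by
  have hlt : ∀ j : Fin rep.N, (j : ℕ) < 2 ^ 15 := fun j => lt_of_lt_of_le j.2 (by decide +kernel)
  have hp := phi_word (w := [(lg i : ℕ)]) (fun x hx => by rw [List.mem_singleton.1 hx]; exact (lg i).2) (pt k)
  rw [← hp]
  refine Vec.eq_of_slices (hlt _) (hlt _) fun s hs => ?_
  have h := List.all_eq_true.1 (List.all_eq_true.1 move_table i (List.mem_range.2 i.2)) s hs
  rw [Vec.force_eq] at h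
  have h' := List.all_eq_true.1 h _ (List.mem_map.2 ⟨k, List.mem_range.2 k.2, rfl⟩)
  have hb := List.all_eq_true.1 (List.all_eq_true.1 gen_facts.2.1 i (List.mem_range.2 i.2)) k (List.mem_range.2 k.2)
  rw [Nat.blt_eq] at hb
  rw [beq_iff_eq, Vec.testBit_applyNet (Rep.netOk_netW rep_valid _), ptN_table, ← pt_val, ← gen_facts.1, ← hp,
    ptN_table ⟨_, hb⟩] at h'
  rw [h', pt_val (sig i k)]
  show s.testBit (pairPts.getD (permN i k) 0) = s.testBit (pairPts.getD (permN i k % 351) 0)
  rw [Nat.mod_eq_of_lt hb]

theorem pair_orbit : orbitOK rep pairWords pairStart pairRounds maskX = true := by decide +kernel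

theorem pair_mask : ∀ k, maskX.testBit (pt k : ℕ) = true := by decide +kernel

end CfsgLib.ThreeTrans.Inst.FiTwentyThree
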