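import Cfsg.Agent.Lib.ThreeTrans.Inst.FiTwentyThreePairData

/-! The reflections of the other generators. -/

set_option autoImplicit false
set_option maxRecDepth 8000
set_option maxHeartbeats 2000000

namespace CfsgLib.ThreeTrans.Inst.FiTwentyThree

open CfsgLib.Presented
open CfsgLib.Presented.Fi23Cosets (ev phi phi_ev rep_valid)
open Fi23Cert (rep alphabet)

theorem step_high : ∀ (i : Fin 4) (k : Fin 351),
    vec k - (qf (vec k + vec (gk (⟨i + 4, by omega⟩))) - qf (vec k) - qf (vec (gk (⟨i + 4, by omega⟩)))) • vec (gk (⟨i + 4, by omega⟩)) = vec (sig (⟨i + 4, by omega⟩) k) ∨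
    vec k - (qf (vec k + vec (gk (⟨i + 4, by omega⟩))) - qf (vec k) - qf (vec (gk (⟨i + 4, by omega⟩)))) • vec (gk (⟨i + 4, by omega⟩)) = -vec (sig (⟨i + 4, by omega⟩) k) := by
  decide +kernel

end CfsgLib.ThreeTrans.Inst.FiTwentyThree
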