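import Cfsg.Agent.Lib.ThreeTrans.Inst.FiTwentyThreePairVec
import Cfsg.Agent.Lib.ThreeTrans.Inst.FiTwentyThreePairCover
import Cfsg.Agent.Lib.ThreeTrans.Inst.FiTwentyThreePairStep
import Cfsg.Agent.Lib.ThreeTrans.Inst.FiTwentyThreePairStepHigh
import Cfsg.Agent.Lib.ThreeTrans.Inst.FiTwentyThreePairPts

/-! The members commuting with a non-commuting pair form a reflection class in dimension seven. -/

set_option autoImplicit false
set_option maxRecDepth 8000
set_option maxHeartbeats 2000000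

namespace CfsgLib.ThreeTrans.Inst.FiTwentyThree

open CfsgLib.Presented
open CfsgLib.Presented.Fi23Cosets (ev phi phi_ev rep_valid)
open Fi23Cert (rep alphabet)

theorem lp_gk : ∀ i, lp (lg i) = pt (gk i) := by decide +kernel

theorem lp_j : lp 7 = pb := by decide +kernel

theorem step_vec : ∀ (i : Fin 8) (k : Fin 351),
    vec k - (qf (vec k + vec (gk i)) - qf (vec k) - qf (vec (gk i))) • vec (gk i) = vec (sig i k) ∨
    vec k - (qf (vec k + vec (gk i)) - qf (vec k) - qf (vec (gk i))) • vec (gk i) = -vec (sig i k) := by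
  intro i k
  rcases i with ⟨n, hn⟩
  rcases lt_or_ge n 4 with h | h
  · exact step_low ⟨n, h⟩ k
  · obtain ⟨m, rfl⟩ : ∃ m, n = m + 4 := ⟨n - 4, by omega⟩
    exact step_high ⟨m, by omega⟩ k

theorem letter_lt (i : Fin 10) : ∀ x ∈ [(i : ℕ)], x < alphabet.eps := by
  intro x hx
  rw [List.mem_singleton] at hx
  subst hx
  exact i.2

theorem letter_zero : evW ev [0] = P.tp (lp 0) := by
  have hp : phi (evW ev Fi23Simple.conjWord) o = lp 0 := Fin.ext (by
    rw [phi_word (by decide +kernel)]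
    decide +kernel)
  rw [← hp]
  show _ = P.tp (P.φ _ P.o)
  rw [P.tp_phi, evW_cons, evW_nil, mul_one, Fi23Simple.conj_eq]
  rfl

theorem letter_step (u v : Fin 10) (h : evW ev [(u : ℕ)] = P.tp (lp u))
    (hb : rep.relsOK [[(v : ℕ)] ++ ([(u : ℕ), (v : ℕ)] ++ [(u : ℕ)] ++ [(v : ℕ), (u : ℕ)])] = true ∧
      rep.relsOK [[(v : ℕ)] ++ [(v : ℕ)]] = true ∧ rep.relsOK [[(u : ℕ), (v : ℕ)] ++ [(v : ℕ), (u : ℕ)]] = true ∧
      Vec.netPerm (rep.netW [(u : ℕ), (v : ℕ)]) (lp u : ℕ) = (lp v : ℕ)) :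
    evW ev [(v : ℕ)] = P.tp (lp v) := by
  obtain ⟨h1, h2, h3, h4⟩ := hb
  have hinv : evW ev [(v : ℕ), (u : ℕ)] = (evW ev [(u : ℕ), (v : ℕ)])⁻¹ := by
    refine eq_inv_of_mul_eq_one_right ?_
    rw [← evW_cat]
    exact evW_eq_one h3
  have hlt : ∀ x ∈ [(u : ℕ), (v : ℕ)], x < alphabet.eps := by
    intro x hx
    simp only [List.mem_cons, List.not_mem_nil, or_false] at hx
    rcases hx with rfl | rfl
    exacts [u.2, v.2]
  have hp : P.φ (evW ev [(u : ℕ), (v : ℕ)]) (lp u) = lp v := Fin.ext ((phi_word hlt _).trans h4)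
  rw [← hp, ← P.conj_tp, ← h, ← hinv, ← evW_cat, ← evW_cat]
  have e1 := evW_eq_one h1
  have e2 := evW_eq_one h2
  rw [evW_cat] at e1 e2
  exact mul_left_cancel (e2.trans e1.symm)

theorem letter_eq (i : Fin 10) : evW ev [(i : ℕ)] = P.tp (lp i) := by
  have e0 : evW ev [((0 : Fin 10) : ℕ)] = P.tp (lp 0) := letter_zero
  have e1 := letter_step 0 1 e0 (by decide +kernel)
  have e2 := letter_step 1 2 e1 (by decide +kernel)
  have e3 := letter_step 2 3 e2 (by decide +kernel)
  have e4 := letter_step 3 4 e3 (by decide +kernel)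
  have e5 := letter_step 4 5 e4 (by decide +kernel)
  have e6 := letter_step 5 6 e5 (by decide +kernel)
  have e7 := letter_step 6 7 e6 (by decide +kernel)
  have e8 := letter_step 3 8 e3 (by decide +kernel)
  have e9 := letter_step 8 9 e8 (by decide +kernel)
  fin_cases i <;> assumption

theorem tp_pb : P.tp pb = evW ev [7] := by rw [← lp_j]; exact (letter_eq 7).symm

/-- the subgroup of the pair -/
noncomputable abbrev pairGroup : Subgroup Cfsg.Spor.Fi23 :=
  Subgroup.closure ({y | y ∈ D ∧ y ≠ a ∧ Commute a y} ∩ {y | y ∈ D ∧ y ≠ P.tp pb ∧ Commute (P.tp pb) y})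

/-- Commuting with the base member, read on points. -/
theorem commute_a_iff (j : Fin rep.N) : Commute a (P.tp j) ↔ j = o ∨ maskA.testBit (j : ℕ) = true := by
  have hcomm : ∀ k : Cfsg.Spor.Fi23, phi k o = o → ∀ i, (Commute a (P.tp (phi k i)) ↔ Commute a (P.tp i)) := by
    intro k hk i
    have ha : k * a * k⁻¹ = a := by rw [(commute_a (mem_H_of_fix hk)).eq, mul_inv_cancel_right]
    rw [show P.tp (phi k i) = k * P.tp i * k⁻¹ from (P.conj_tp k i).symm]
    conv_lhs => rw [← ha]
    exact CfsgLib.ThreeTrans.commute_conj_iff k a (P.tp i)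
  have hbase : Commute a (P.tp (phi gA o)) ∧ ¬ Commute a (P.tp (phi gB o)) := by
    rw [gA_o, gB_o, P.commute_tp_iff, P.commute_tp_iff, Fin.ext_iff, Fin.ext_iff]
    show (phi a _ : ℕ) = _ ∧ ¬ (phi a _ : ℕ) = _
    rw [a, phi_word (by decide +kernel), phi_word (by decide +kernel)]
    decide +kernel
  rcases cover j with rfl | h | h
  · simp only [true_or, iff_true]
    rw [show P.tp o = a from P.tp_o]
  · obtain ⟨k, hk, rfl⟩ := reachA gA_bit h
    exact iff_of_true ((hcomm k hk _).2 hbase.1) (Or.inr h)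
  · obtain ⟨k, hk, rfl⟩ := reachB gB_bit h
    refine iff_of_false (fun hc => hbase.2 ((hcomm k hk _).1 hc)) ?_
    have hdisj : Nat.land (Nat.lor 1 maskA) maskB = 0 := by decide +kernel
    have hb := congrArg (fun n => n.testBit (phi k (phi gB o) : ℕ)) hdisj
    simp only [show Nat.land (Nat.lor 1 maskA) maskB = (1 ||| maskA) &&& maskB from rfl, Nat.testBit_and,
      Nat.testBit_or, h, Bool.and_true, Nat.zero_testBit, Bool.or_eq_false_iff] at hb
    rintro (e | e)
    · rw [e] at hb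
      exact absurd hb.1 (by simp [o])
    · rw [hb.2] at e; exact Bool.noConfusion e

/-- the points moved by a network, on the slices -/
noncomputable def movedBy (l : List Vec.Stage) : List ℕ → ℕ
  | [] => 0
  | s :: ss => Nat.lor (Nat.xor (Vec.applyNet l s) s) (movedBy l ss)

theorem movedBy_spec {l : List Vec.Stage} (hl : Vec.netOk l = true) {j : ℕ} : ∀ ss : List ℕ,
    (movedBy l ss).testBit j = false ↔ ∀ s ∈ ss, s.testBit (Vec.netPerm l j) = s.testBit j
  | [] => by simp [movedBy]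
  | s :: ss => by
    rw [movedBy, show Nat.lor (Nat.xor (Vec.applyNet l s) s) (movedBy l ss) = (Vec.applyNet l s ^^^ s) ||| movedBy l ss from rfl,
      Nat.testBit_or, Bool.or_eq_false_iff, Nat.testBit_xor, Vec.testBit_applyNet hl, movedBy_spec hl ss,
      List.forall_mem_cons]
    refine and_congr ?_ Iff.rfl
    cases s.testBit (Vec.netPerm l j) <;> cases s.testBit j <;> simp

/-- the points moved by the other member -/
noncomputable def movedPb : ℕ := movedBy (rep.netW [7]) (Vec.slices 15)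

theorem common_table :
    Nat.beq maskX (Nat.xor maskA (Nat.land maskA movedPb)) = true ∧ maskA.testBit 8006 = false ∧
      maskA.testBit 0 = false ∧
      Nat.beq maskX (pairPts.foldr (fun p m => Nat.lor (Nat.shiftLeft 1 p) m) 0) = true := by
  decide +kernel

theorem testBit_foldr : ∀ (l : List ℕ) (j : ℕ),
    (l.foldr (fun p m => Nat.lor (Nat.shiftLeft 1 p) m) 0).testBit j = true ↔ j ∈ l
  | [], j => by simp
  | p :: l, j => by
    rw [List.foldr_cons]
    show ((1 <<< p) ||| _).testBit j = true ↔ _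
    rw [Nat.testBit_or, Bool.or_eq_true, testBit_foldr l j, List.mem_cons]
    refine or_congr ?_ Iff.rfl
    rw [Nat.one_shiftLeft, Nat.testBit_two_pow]
    simp [eq_comm]

theorem pairPts_facts : pairPts.length = 351 ∧ (pairPts.all fun x => Nat.blt x rep.N) = true := by
  decide +kernel

theorem pt_mem_iff (j : Fin rep.N) : (∃ k, pt k = j) ↔ maskX.testBit (j : ℕ) = true := by
  rw [Nat.eq_of_beq_eq_true common_table.2.2.2, testBit_foldr]
  constructor
  · rintro ⟨k, rfl⟩
    have hk : (k : ℕ) < pairPts.length := lt_of_lt_of_eq k.2 pairPts_facts.1.symm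
    have hb := List.all_eq_true.1 pairPts_facts.2 _ (List.getElem_mem hk)
    rw [Nat.blt_eq] at hb
    have e : ((pt k : Fin rep.N) : ℕ) = pairPts[(k : ℕ)] := by
      show pairPts.getD k 0 % rep.N = _
      rw [List.getD_eq_getElem _ _ hk, Nat.mod_eq_of_lt hb]
    rw [e]
    exact List.getElem_mem hk
  · intro h
    obtain ⟨n, hn, e⟩ := List.mem_iff_getElem.1 h
    refine ⟨⟨n, lt_of_lt_of_eq hn pairPts_facts.1⟩, Fin.ext ?_⟩
    show pairPts.getD n 0 % rep.N = _
    rw [List.getD_eq_getElem _ _ hn, e, Nat.mod_eq_of_lt j.2]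

/-- Commuting with the other member, read on points. -/
theorem commute_pb_iff (j : Fin rep.N) : Commute (P.tp pb) (P.tp j) ↔ movedPb.testBit (j : ℕ) = false := by
  have hw : ∀ x ∈ [7], x < alphabet.eps := by decide
  have hp : Vec.netPerm (rep.netW [7]) (j : ℕ) = (phi (evW ev [7]) j : ℕ) := (phi_word hw j).symm
  have hlt : ∀ i : Fin rep.N, (i : ℕ) < 2 ^ 15 := fun i => lt_of_lt_of_le i.2 (by decide +kernel)
  rw [tp_pb, P.commute_tp_iff, movedPb, movedBy_spec (Rep.netOk_netW rep_valid _), Fin.ext_iff, hp]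
  constructor
  · intro h s _
    exact congrArg s.testBit h
  · intro h
    exact Vec.eq_of_slices (hlt _) (hlt _) h

/-- Membership in the common neighbourhood, read on points. -/
theorem mem_common (j : Fin rep.N) :
    P.tp j ∈ ({y | y ∈ D ∧ y ≠ a ∧ Commute a y} ∩ {y | y ∈ D ∧ y ≠ P.tp pb ∧ Commute (P.tp pb) y}) ↔
      ∃ k, pt k = j := by
  obtain ⟨hX, hpb, h0, -⟩ := common_table
  have key : ∀ A M : ℕ, (Nat.xor A (Nat.land A M)).testBit (j : ℕ) = (A.testBit (j : ℕ) && !M.testBit (j : ℕ)) := by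
    intro A M
    show (A ^^^ (A &&& M)).testBit (j : ℕ) = _
    rw [Nat.testBit_xor, Nat.testBit_and]
    cases A.testBit (j : ℕ) <;> cases M.testBit (j : ℕ) <;> rfl
  have h1 : maskX.testBit (j : ℕ) = (maskA.testBit (j : ℕ) && !movedPb.testBit (j : ℕ)) := by
    rw [Nat.eq_of_beq_eq_true hX]
    exact key _ _
  have n0 : P.tp j ≠ a ↔ j ≠ o := by rw [Ne, show a = P.tp o from P.tp_o.symm, P.tp_injective.eq_iff]
  have n1 : P.tp j ≠ P.tp pb ↔ j ≠ pb := by rw [Ne, P.tp_injective.eq_iff]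
  rw [pt_mem_iff, h1, Set.mem_inter_iff, Bool.and_eq_true, Bool.not_eq_true']
  simp only [Set.mem_ofPred_eq, P.tp_mem, true_and, n0, n1, commute_a_iff, commute_pb_iff]
  constructor
  · rintro ⟨⟨h, h' | h'⟩, -, h''⟩
    exacts [absurd h' h, ⟨h', h''⟩]
  · rintro ⟨h, h'⟩
    refine ⟨⟨fun e => ?_, Or.inr h⟩, fun e => ?_, h'⟩
    · rw [e] at h; rw [show ((o : Fin rep.N) : ℕ) = 0 from rfl, h0] at h; exact Bool.noConfusion h
    · rw [e] at h; rw [show ((pb : Fin rep.N) : ℕ) = 8006 from rfl, hpb] at h; exact Bool.noConfusion h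

theorem pairWords_getD : ∀ i : Fin 8, pairWords.getD i [] = [(lg i : ℕ)] := by decide +kernel

/-- the isometry of a common point -/
noncomputable def rf (k : Fin 351) : ↥(Cfsg.reflectionSubgroup (⇑Q7) 1) :=
  ReflClass.rc (vec k) (by rw [Q7_apply]; exact vec_norm k)

/-- the transposition of a common point -/
noncomputable def tf (k : Fin 351) : ↥pairGroup :=
  ⟨P.tp (pt k), Subgroup.subset_closure ((mem_common _).2 ⟨k, rfl⟩)⟩

/-- the linked pairs -/
noncomputable def link : Subgroup (↥pairGroup × ↥(Cfsg.reflectionSubgroup (⇑Q7) 1)) :=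
  Subgroup.closure (Set.range fun i : Fin 8 => (tf (gk i), rf (gk i)))

open CfsgLib.Orth in
theorem link_step (i : Fin 8) (k : Fin 351) :
    tf (gk i) * tf k * (tf (gk i))⁻¹ = tf (sig i k) ∧ rf (gk i) * rf k * (rf (gk i))⁻¹ = rf (sig i k) := by
  constructor
  · apply Subtype.ext
    show P.tp (pt (gk i)) * P.tp (pt k) * (P.tp (pt (gk i)))⁻¹ = P.tp (pt (sig i k))
    rw [P.conj_tp, ← lp_gk, ← letter_eq]
    congr 1
    exact Fin.ext ((phi_word (letter_lt _) _).trans (step_pt i k))
  · apply Subtype.ext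
    show refl Q7 (vec (gk i)) * refl Q7 (vec k) * (refl Q7 (vec (gk i)))⁻¹ = refl Q7 (vec (sig i k))
    rw [refl_conj, app_refl]
    have h := step_vec i k
    rw [Q7_apply, vec_norm, inv_one, one_mul, polar_Q7]
    rcases h with h | h
    · rw [h]
    · rw [h, refl_neg]

theorem link_conj {p : ↥pairGroup × ↥(Cfsg.reflectionSubgroup (⇑Q7) 1)} (hp : p ∈ link) :
    ∀ k, ∃ l, p.1 * tf k * p.1⁻¹ = tf l ∧ p.2 * rf k * p.2⁻¹ = rf l := by
  induction hp using Subgroup.closure_induction with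
  | mem x hx =>
    obtain ⟨i, rfl⟩ := hx
    exact fun k => ⟨sig i k, link_step i k⟩
  | one => exact fun k => ⟨k, by simp, by simp⟩
  | mul x y _ _ ihx ihy =>
    intro k
    obtain ⟨l, h1, h2⟩ := ihy k
    obtain ⟨m, h3, h4⟩ := ihx l
    exact ⟨m, by rw [← h3, ← h1, Prod.fst_mul]; group, by rw [← h4, ← h2, Prod.snd_mul]; group⟩
  | inv x _ ih =>
    intro k
    -- the map is a permutation
    choose f hf using ih
    have hfi : Function.Injective f := fun u v h => by
      have := (hf u).1.trans ((congrArg tf h).trans (hf v).1.symm)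
      have := congrArg Subtype.val (mul_left_cancel (mul_right_cancel this))
      exact pt_injective (P.tp_injective this)
    obtain ⟨l, hl⟩ := (Finite.injective_iff_surjective.1 hfi) k
    exact ⟨l, by rw [← hl, ← (hf l).1, Prod.fst_inv]; group, by rw [← hl, ← (hf l).2, Prod.snd_inv]; group⟩

theorem link_gen (k : Fin 351) : ∃ p ∈ link, p.1 = tf k ∧ p.2 = rf k := by
  have hok := pair_orbit
  let K : Subgroup Cfsg.Spor.Fi23 := Subgroup.closure ((fun w => evW ev w) '' {w | w ∈ pairWords})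
  have hmask : maskX.testBit (pt k : ℕ) = true := by
    exact pair_mask k
  obtain ⟨h, hh, hh'⟩ :=
    (orbit_eq_of_ok rep_valid hok phi phi_ev (H := K) rfl (by decide) (pt k)).2 hmask
  have hs : (⟨pairStart, by decide⟩ : Fin rep.N) = pt (gk 0) := by decide +kernel
  rw [hs] at hh'
  have lift : ∀ g ∈ K, ∃ p ∈ link, (p.1 : Cfsg.Spor.Fi23) = g := by
    intro g hg
    induction hg using Subgroup.closure_induction with
    | mem x hx =>
      obtain ⟨w, hw, rfl⟩ := hx
      obtain ⟨n, hn, rfl⟩ := List.mem_iff_getElem.1 (show w ∈ pairWords from hw)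
      have hn8 : n < 8 := lt_of_lt_of_eq hn (by rfl)
      refine ⟨_, Subgroup.subset_closure ⟨⟨n, hn8⟩, rfl⟩, ?_⟩
      show P.tp (pt (gk ⟨n, hn8⟩)) = evW ev pairWords[n]
      rw [← lp_gk, ← letter_eq]
      congr 1
      rw [← pairWords_getD]
      exact List.getD_eq_getElem _ _ hn
    | one => exact ⟨1, link.one_mem, rfl⟩
    | mul x y _ _ ihx ihy =>
      obtain ⟨p, hp, rfl⟩ := ihx
      obtain ⟨q, hq, rfl⟩ := ihy
      exact ⟨p * q, link.mul_mem hp hq, rfl⟩
    | inv x _ ih =>
      obtain ⟨p, hp, rfl⟩ := ih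
      exact ⟨p⁻¹, link.inv_mem hp, rfl⟩
  obtain ⟨p, hp, hpv⟩ := lift h hh
  obtain ⟨l, h1, h2⟩ := link_conj hp (gk 0)
  have hl : l = k := by
    apply pt_injective
    apply P.tp_injective
    have := congrArg Subtype.val h1
    rw [show P.tp (pt l) = (tf l : Cfsg.Spor.Fi23) from rfl, ← this]
    show (p.1 : Cfsg.Spor.Fi23) * P.tp (pt (gk 0)) * (p.1 : Cfsg.Spor.Fi23)⁻¹ = _
    rw [hpv, P.conj_tp]
    exact congrArg P.tp hh'
  subst hl
  exact ⟨p * (tf (gk 0), rf (gk 0)) * p⁻¹, link.mul_mem (link.mul_mem hp (Subgroup.subset_closure ⟨0, rfl⟩))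
    (link.inv_mem hp), h1, h2⟩

theorem pair_reflection : Cfsg.IsProjReflectionGroupModThree (↥pairGroup ⧸ Subgroup.center ↥pairGroup) 7 (-1) 1 := by
  refine ⟨Q7, nondeg, disc, quot_center_equiv link ?_ ?_ ?_⟩
  · intro ⟨g, hg⟩
    induction hg using Subgroup.closure_induction with
    | mem x hx =>
      obtain ⟨j, rfl⟩ := P.tp_surj hx.1.1
      obtain ⟨k, rfl⟩ := (mem_common j).1 hx
      obtain ⟨p, hp, h1, -⟩ := link_gen k
      exact ⟨p, hp, h1⟩
    | one => exact ⟨1, link.one_mem, rfl⟩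
    | mul x y _ _ ihx ihy =>
      obtain ⟨p, hp, h⟩ := ihx
      obtain ⟨q, hq, h'⟩ := ihy
      exact ⟨p * q, link.mul_mem hp hq, by rw [Prod.fst_mul, h, h']; rfl⟩
    | inv x _ ih =>
      obtain ⟨p, hp, h⟩ := ih
      exact ⟨p⁻¹, link.inv_mem hp, by rw [Prod.fst_inv, h]; rfl⟩
  · intro ⟨g, hg⟩
    induction hg using Subgroup.closure_induction with
    | mem x hx =>
      obtain ⟨v, hv, rfl⟩ := ReflClass.eq_refl_of_mem hx
      obtain ⟨k, hk⟩ := vec_cover v (by rwa [← Q7_apply])
      obtain ⟨p, hp, -, h2⟩ := link_gen k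
      refine ⟨p, hp, h2.trans (Subtype.ext ?_)⟩
      show CfsgLib.Orth.refl Q7 (vec k) = CfsgLib.Orth.refl Q7 v
      rcases hk with hk | hk
      · rw [hk]
      · rw [hk, CfsgLib.Orth.refl_neg]
    | one => exact ⟨1, link.one_mem, rfl⟩
    | mul x y _ _ ihx ihy =>
      obtain ⟨p, hp, h⟩ := ihx
      obtain ⟨q, hq, h'⟩ := ihy
      exact ⟨p * q, link.mul_mem hp hq, by rw [Prod.snd_mul, h, h']; rfl⟩
    | inv x _ ih =>
      obtain ⟨p, hp, h⟩ := ih
      exact ⟨p⁻¹, link.inv_mem hp, by rw [Prod.snd_inv, h]; rfl⟩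
  · intro p hp
    constructor
    · intro hc
      rw [Subgroup.mem_center_iff]
      intro x
      obtain ⟨x, hx⟩ := x
      induction hx using Subgroup.closure_induction with
      | mem y hy =>
        obtain ⟨v, hv, rfl⟩ := ReflClass.eq_refl_of_mem hy
        obtain ⟨k, hk⟩ := vec_cover v (by rwa [← Q7_apply])
        obtain ⟨l, h1, h2⟩ := link_conj hp k
        have hc' := Subgroup.mem_center_iff.1 hc (tf k)
        rw [← hc', mul_inv_cancel_right] at h1
        have hl : k = l := pt_injective (P.tp_injective (congrArg Subtype.val h1))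
        rw [← hl] at h2
        have e : (⟨CfsgLib.Orth.refl Q7 v, Subgroup.subset_closure hy⟩ : ↥(Cfsg.reflectionSubgroup (⇑Q7) 1)) = rf k := by
          apply Subtype.ext
          show CfsgLib.Orth.refl Q7 v = CfsgLib.Orth.refl Q7 (vec k)
          rcases hk with hk | hk
          · rw [hk]
          · rw [hk, CfsgLib.Orth.refl_neg]
        rw [e]
        exact (mul_inv_eq_iff_eq_mul.1 h2).symm
      | one => exact Eq.trans (one_mul p.2) (mul_one p.2).symm
      | mul y z _ _ ihy ihz => exact (Commute.mul_left ihy ihz).eq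
      | inv y _ ih => exact (Commute.inv_left ih).eq
    · intro hc
      rw [Subgroup.mem_center_iff]
      intro x
      obtain ⟨x, hx⟩ := x
      induction hx using Subgroup.closure_induction with
      | mem y hy =>
        obtain ⟨j, rfl⟩ := P.tp_surj hy.1.1
        obtain ⟨k, rfl⟩ := (mem_common j).1 hy
        obtain ⟨l, h1, h2⟩ := link_conj hp k
        have hc' := Subgroup.mem_center_iff.1 hc (rf k)
        rw [← hc', mul_inv_cancel_right] at h2
        have hl : k = l := by
          have h3 := congrArg Subtype.val h2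
          exact vec_sign k l ((ReflClass.refl_eq_iff (by rw [Q7_apply, vec_norm]; decide)).1 h3)
        rw [← hl] at h1
        exact (mul_inv_eq_iff_eq_mul.1 h1).symm
      | one => exact Eq.trans (one_mul p.1) (mul_one p.1).symm
      | mul y z _ _ ihy ihz => exact (Commute.mul_left ihy ihz).eq
      | inv y _ ih => exact (Commute.inv_left ih).eq

end CfsgLib.ThreeTrans.Inst.FiTwentyThree
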