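import Cfsg.Agent.Lib.ThreeTrans.Inst.FiTwentyThreePairData

/-! The form of the pair. -/

set_option autoImplicit false
set_option maxRecDepth 8000
set_option maxHeartbeats 2000000

namespace CfsgLib.ThreeTrans.Inst.FiTwentyThree

open CfsgLib.Presented
open CfsgLib.Presented.Fi23Cosets (ev phi phi_ev rep_valid)
open Fi23Cert (rep alphabet)

theorem nondeg : (QuadraticMap.polarBilin Q7).Nondegenerate := by
  have key : ∀ x : Fin 7 → ZMod 3, (∀ i, qf (x + Pi.single i 1) - qf x - qf (Pi.single i 1) = 0) → x = 0 := by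
    decide +kernel
  have hl : LinearMap.SeparatingLeft (QuadraticMap.polarBilin Q7) := fun x hx =>
    key x fun i => by rw [← polar_Q7]; exact hx _
  exact ⟨hl, fun x hx => hl x fun y => by
    rw [QuadraticMap.polarBilin_apply_apply, QuadraticMap.polar_comm]; exact hx y⟩

theorem disc : Cfsg.polarGramDet (⇑Q7) = -1 := by
  rw [Cfsg.polarGramDet, coe_Q7]
  have h : (Matrix.of fun i j : Fin 7 => QuadraticMap.polar qf (Pi.single i 1) (Pi.single j 1)) =
      !![2, 2, 0, 0, 0, 0, 0; 2, 2, 2, 0, 0, 0, 0; 0, 2, 2, 2, 0, 0, 0; 0, 0, 2, 2, 2, 0, 2;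
        0, 0, 0, 2, 2, 2, 0; 0, 0, 0, 0, 2, 2, 0; 0, 0, 0, 2, 0, 0, 2] := by
    unfold QuadraticMap.polar
    decide +kernel
  rw [h]
  simp [Matrix.det_succ_row_zero, Fin.sum_univ_succ, Fin.succAbove]
  decide

theorem vec_norm : ∀ k, qf (vec k) = 1 := by decide +kernel

end CfsgLib.ThreeTrans.Inst.FiTwentyThree
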