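import Cfsg.Agent.Lib.ThreeTrans.Inst.FiTwentyTwoPairData

/-! The vectors of the pair up to sign. -/

set_option autoImplicit false
set_option maxRecDepth 8000
set_option maxHeartbeats 2000000
set_option Elab.async false

namespace CfsgLib.ThreeTrans.Inst.FiTwentyTwo

open CfsgLib.Presented
open CfsgLib.Presented.Fi22UCosets (ev phi phi_ev rep_valid)
open Fi22UCert (rep alphabet)

theorem cover_table : ∀ v : Fin 6 → ZMod 3, qf v = 1 → vec (posOf v) = v ∨ vec (posOf v) = -v := by decide +kernel

theorem vec_cover (v : Fin 6 → ZMod 3) (hv : qf v = 1) : ∃ k, vec k = v ∨ vec k = -v :=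
  ⟨_, cover_table v hv⟩

theorem sign_table : ∀ k, posOf (vec k) = k ∧ posOf (-vec k) = k := by decide +kernel

theorem vec_sign (k l : Fin 126) (h : vec l = vec k ∨ vec l = -vec k) : k = l := by
  rcases h with h | h
  · exact (sign_table k).1.symm.trans ((congrArg posOf h.symm).trans (sign_table l).1)
  · exact (sign_table k).2.symm.trans ((congrArg posOf h.symm).trans (sign_table l).1)

end CfsgLib.ThreeTrans.Inst.FiTwentyTwo
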