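import Cfsg.Agent.Lib.ThreeTrans.Inst.FiTwentyTwoPairData

/-! Kernel checks for the points of the pair. -/

set_option autoImplicit false
set_option maxRecDepth 8000
set_option maxHeartbeats 2000000

namespace CfsgLib.ThreeTrans.Inst.FiTwentyTwo

open CfsgLib.Presented
open CfsgLib.Presented.Fi22UCosets (ev phi phi_ev rep_valid)
open Fi22UCert (rep alphabet)

theorem movedBy_spec {l : List Vec.Stage} (hl : Vec.netOk l = true) {j : ℕ} : ∀ ss : List ℕ,
    (movedBy l ss).testBit j = false ↔ ∀ s ∈ ss, s.testBit (Vec.netPerm l j) = s.testBit j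
  | [] => by simp [movedBy]
  | s :: ss => by
    rw [movedBy, show Nat.lor (Nat.xor (Vec.applyNet l s) s) (movedBy l ss) = (Vec.applyNet l s ^^^ s) ||| movedBy l ss from rfl,
      Nat.testBit_or, Bool.or_eq_false_iff, Nat.testBit_xor, Vec.testBit_applyNet hl, movedBy_spec hl ss,
      List.forall_mem_cons]
    refine and_congr ?_ Iff.rfl
    cases s.testBit (Vec.netPerm l j) <;> cases s.testBit j <;> simp

/-- the moved points of a letter -/
noncomputable def moved (x : ℕ) : ℕ := movedBy (rep.netW [x]) (Vec.slices 12)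

theorem moved_iff {x : ℕ} (hx : x < alphabet.eps) (j : Fin rep.N) :
    (moved x).testBit (j : ℕ) = false ↔ Vec.netPerm (rep.netW [x]) (j : ℕ) = j := by
  have hlt : ∀ i : Fin rep.N, (i : ℕ) < 2 ^ 12 := fun i => lt_of_lt_of_le i.2 (by decide +kernel)
  have hp : Vec.netPerm (rep.netW [x]) (j : ℕ) = (phi (evW ev [x]) j : ℕ) :=
    (phi_word (w := [x]) (by simpa using hx) j).symm
  rw [moved, movedBy_spec (Rep.netOk_netW rep_valid _), hp]
  exact ⟨fun h => Vec.eq_of_slices (hlt _) (hlt _) h, fun h s _ => congrArg s.testBit h⟩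

theorem common_table :
    Nat.beq (Nat.xor (Vec.ones rep.N) (Nat.land (Vec.ones rep.N) (Nat.lor 5 (Nat.lor (moved 0) (moved 1)))))
      (pairPts.foldr (fun p m => Nat.lor (Nat.shiftLeft 1 p) m) 0) = true := by
  decide +kernel

theorem testBit_foldr : ∀ (l : List ℕ) (j : ℕ),
    (l.foldr (fun p m => Nat.lor (Nat.shiftLeft 1 p) m) 0).testBit j = true ↔ j ∈ l
  | [], j => by simp
  | p :: l, j => by
    rw [List.foldr_cons]
    show ((1 <<< p) ||| _).testBit j = true ↔ _
    rw [Nat.testBit_or, Bool.or_eq_true, testBit_foldr l j, List.mem_cons]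
    refine or_congr ?_ Iff.rfl
    rw [Nat.one_shiftLeft, Nat.testBit_two_pow]
    simp [eq_comm]

/-- the images of the common points on the slices -/
noncomputable def moveOK (l : List Vec.Stage) (ps : List (ℕ × ℕ)) : Bool :=
  (Vec.slices 12).all fun s => Vec.force (Vec.applyNet l s) fun T => ps.all fun p => T.testBit p.1 == s.testBit p.2

theorem move_table : (List.range 7).all (fun i => moveOK (rep.netW (pairWords.getD i []))
    ((List.range 126).map fun k => (pairPts.getD k 0, pairPts.getD ((pairPerms.getD i []).getD k 0) 0))) = true := by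
  decide +kernel

theorem pairPts_facts : pairPts.length = 126 ∧ (pairPts.all fun x => Nat.blt x rep.N) = true := by
  decide +kernel

theorem perms_lt : ∀ (i : Fin 7) (k : Fin 126), (pairPerms.getD i []).getD k 0 < 126 := by decide +kernel

theorem pt_val (k : Fin 126) : (pt k : ℕ) = pairPts.getD k 0 := by
  have hk : (k : ℕ) < pairPts.length := lt_of_lt_of_eq k.2 pairPts_facts.1.symm
  show pairPts.getD k 0 % rep.N = _
  refine Nat.mod_eq_of_lt ?_
  rw [List.getD_eq_getElem _ _ hk]
  have hb := List.all_eq_true.1 pairPts_facts.2 _ (List.getElem_mem hk)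
  rwa [Nat.blt_eq] at hb

theorem step_pt (i : Fin 7) (k : Fin 126) :
    Vec.netPerm (rep.netW (pairWords.getD i [])) (pt k : ℕ) = (pt (sig i k) : ℕ) := by
  have hw : ∀ i : Fin 7, ((pairWords.getD i []).all fun x => Nat.blt x alphabet.eps) = true := by decide +kernel
  have hlt : ∀ i : Fin rep.N, (i : ℕ) < 2 ^ 12 := fun i => lt_of_lt_of_le i.2 (by decide +kernel)
  have hp := phi_word (w := pairWords.getD i []) (fun x hx => by
    have hb := List.all_eq_true.1 (hw i) x hx
    rwa [Nat.blt_eq] at hb) (pt k)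
  rw [← hp]
  refine Vec.eq_of_slices (hlt _) (hlt _) fun s hs => ?_
  have h := List.all_eq_true.1 (List.all_eq_true.1 move_table i (List.mem_range.2 i.2)) s hs
  rw [Vec.force_eq] at h
  have h' := List.all_eq_true.1 h _ (List.mem_map.2 ⟨k, List.mem_range.2 k.2, rfl⟩)
  rw [beq_iff_eq, Vec.testBit_applyNet (Rep.netOk_netW rep_valid _), ← pt_val, ← hp] at h'
  rw [h', pt_val (sig i k)]
  show s.testBit (pairPts.getD ((pairPerms.getD i []).getD k 0) 0) = s.testBit (pairPts.getD ((pairPerms.getD i []).getD k 0 % 126) 0)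
  rw [Nat.mod_eq_of_lt (perms_lt i k)]

theorem pair_orbit : orbitOK rep pairWords pairStart pairRounds maskX = true := by decide +kernel

theorem pair_mask : ∀ k, maskX.testBit (pt k : ℕ) = true := by decide +kernel

theorem pair_start : (⟨pairStart, by decide⟩ : Fin rep.N) = pt (gk 0) := by decide +kernel

end CfsgLib.ThreeTrans.Inst.FiTwentyTwo
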