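import Mathlib

/-! Two groups linked by a subgroup of their product have isomorphic quotients by their centres. -/

set_option autoImplicit false

namespace CfsgLib.ThreeTrans.Inst

theorem quot_center_equiv {L R : Type*} [Group L] [Group R] (P : Subgroup (L × R))
    (h1 : ∀ g, ∃ p ∈ P, p.1 = g) (h2 : ∀ r, ∃ p ∈ P, p.2 = r)
    (h : ∀ p ∈ P, p.1 ∈ Subgroup.center L ↔ p.2 ∈ Subgroup.center R) :
    Nonempty (L ⧸ Subgroup.center L ≃* R ⧸ Subgroup.center R) := by
  let fL : P →* L ⧸ Subgroup.center L := (QuotientGroup.mk' _).comp ((MonoidHom.fst L R).comp P.subtype)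
  let fR : P →* R ⧸ Subgroup.center R := (QuotientGroup.mk' _).comp ((MonoidHom.snd L R).comp P.subtype)
  have hL : Function.Surjective fL := fun x => by
    obtain ⟨g, rfl⟩ := QuotientGroup.mk_surjective x
    obtain ⟨p, hp, rfl⟩ := h1 g
    exact ⟨⟨p, hp⟩, rfl⟩
  have hR : Function.Surjective fR := fun x => by
    obtain ⟨g, rfl⟩ := QuotientGroup.mk_surjective x
    obtain ⟨p, hp, rfl⟩ := h2 g
    exact ⟨⟨p, hp⟩, rfl⟩
  have hk : fL.ker = fR.ker := by
    ext ⟨p, hp⟩
    simp only [MonoidHom.mem_ker, fL, fR, MonoidHom.comp_apply, QuotientGroup.mk'_apply, QuotientGroup.eq_one_iff]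
    exact h p hp
  exact ⟨(QuotientGroup.quotientKerEquivOfSurjective fL hL).symm.trans
    ((QuotientGroup.quotientMulEquivOfEq hk).trans (QuotientGroup.quotientKerEquivOfSurjective fR hR))⟩

end CfsgLib.ThreeTrans.Inst
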