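import Cfsg.Agent.Lib.ThreeTrans.Inst.FiTwentyTwoPairVec
import Cfsg.Agent.Lib.ThreeTrans.Inst.FiTwentyTwoPairCover
import Cfsg.Agent.Lib.ThreeTrans.Inst.FiTwentyTwoPairPts
import Cfsg.Agent.Lib.ThreeTrans.Inst.PairQuot

/-! The members commuting with a non-commuting pair form a reflection class in dimension six. -/

set_option autoImplicit false
set_option maxRecDepth 8000
set_option maxHeartbeats 2000000

namespace CfsgLib.ThreeTrans.Inst.FiTwentyTwo

open CfsgLib.Presented
open CfsgLib.Presented.Fi22UCosets (ev phi phi_ev rep_valid)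
open Fi22UCert (rep alphabet)

theorem words_lt (i : Fin 7) : ∀ x ∈ pairWords.getD i [], x < alphabet.eps := by
  have h : ∀ i : Fin 7, ((pairWords.getD i []).all fun x => Nat.blt x alphabet.eps) = true := by decide +kernel
  intro x hx
  have := List.all_eq_true.1 (h i) x hx
  rwa [Nat.blt_eq] at this

theorem word_eq (i : Fin 7) : evW ev (pairWords.getD i []) = P.tp (pt (gk i)) := by
  have key : ∀ i : Fin 7,
      rep.relsOK [pairWords.getD i [] ++ (genConj.getD i [] ++ [0] ++ (genConj.getD i []).reverse)] = true ∧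
      rep.relsOK [genConj.getD i [] ++ (genConj.getD i []).reverse] = true ∧
      rep.relsOK [pairWords.getD i [] ++ pairWords.getD i []] = true ∧
      Vec.netPerm (rep.netW (genConj.getD i [])) 0 = (pt (gk i) : ℕ) ∧
      ((genConj.getD i []).all fun x => Nat.blt x alphabet.eps) = true := by decide +kernel
  obtain ⟨h1, h2, h3, h4, h5⟩ := key i
  have hinv : evW ev (genConj.getD i []).reverse = (evW ev (genConj.getD i []))⁻¹ := by
    refine eq_inv_of_mul_eq_one_right ?_
    rw [← evW_cat]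
    exact evW_eq_one h2
  have hp : phi (evW ev (genConj.getD i [])) o = pt (gk i) := Fin.ext (by
    rw [phi_word fun x hx => (by
      have := List.all_eq_true.1 h5 x hx
      rwa [Nat.blt_eq] at this)]
    exact h4)
  have e1 := evW_eq_one h1
  rw [evW_cat, evW_cat, evW_cat, hinv, ← a] at e1
  have e2 := evW_eq_one h3
  rw [evW_cat] at e2
  rw [← hp]
  show _ = P.tp (P.φ _ P.o)
  rw [P.tp_phi]
  exact mul_left_cancel (e2.trans e1.symm)

/-- the subgroup of the pair -/
noncomputable abbrev pairGroup : Subgroup Cfsg.Spor.Fi22 :=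
  Subgroup.closure ({y | y ∈ D ∧ y ≠ a ∧ Commute a y} ∩ {y | y ∈ D ∧ y ≠ P.tp pb ∧ Commute (P.tp pb) y})

theorem tp_pb : P.tp pb = evW ev [1] := by
  have hp : phi gB o = pb := gB_o
  rw [← hp]
  show P.tp (P.φ gB P.o) = _
  rw [P.tp_phi]
  have hinv : gB⁻¹ = evW ev [1, 0] := inv_eq_of_mul_eq_one_right (by
    rw [gB, ← evW_cat]; exact evW_eq_one (by decide +kernel))
  rw [show P.a = evW ev [0] from rfl, hinv, gB, ← evW_cat, ← evW_cat]
  have h := evW_eq_one (w := [0, 1, 0, 1, 0] ++ [1]) (by decide +kernel)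
  rw [evW_cat] at h
  have h' := evW_eq_one (w := [1] ++ [1]) (by decide +kernel)
  rw [evW_cat] at h'
  exact (mul_right_cancel (h.trans h'.symm))

theorem pt_mem_iff (j : Fin rep.N) : (∃ k, pt k = j) ↔ (j : ℕ) ∈ pairPts := by
  constructor
  · rintro ⟨k, rfl⟩
    have hk : (k : ℕ) < pairPts.length := lt_of_lt_of_eq k.2 pairPts_facts.1.symm
    rw [pt_val, List.getD_eq_getElem _ _ hk]
    exact List.getElem_mem hk
  · intro h
    obtain ⟨n, hn, e⟩ := List.mem_iff_getElem.1 h
    refine ⟨⟨n, lt_of_lt_of_eq hn pairPts_facts.1⟩, Fin.ext ?_⟩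
    rw [pt_val, List.getD_eq_getElem _ _ hn, e]

theorem commute_letter (x : ℕ) (hx : x < alphabet.eps) (j : Fin rep.N) :
    Commute (evW ev [x]) (P.tp j) ↔ (moved x).testBit (j : ℕ) = false := by
  rw [P.commute_tp_iff, moved_iff hx, Fin.ext_iff]
  have h := phi_word (w := [x]) (by simpa using hx) j
  exact ⟨fun e => h.symm.trans e, fun e => h.trans e⟩

/-- Membership in the common neighbourhood, read on points. -/
theorem mem_common (j : Fin rep.N) :
    P.tp j ∈ ({y | y ∈ D ∧ y ≠ a ∧ Commute a y} ∩ {y | y ∈ D ∧ y ≠ P.tp pb ∧ Commute (P.tp pb) y}) ↔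
      ∃ k, pt k = j := by
  have key : ∀ A M : ℕ, (Nat.xor A (Nat.land A M)).testBit (j : ℕ) = (A.testBit (j : ℕ) && !M.testBit (j : ℕ)) := by
    intro A M
    show (A ^^^ (A &&& M)).testBit (j : ℕ) = _
    rw [Nat.testBit_xor, Nat.testBit_and]
    cases A.testBit (j : ℕ) <;> cases M.testBit (j : ℕ) <;> rfl
  have h5 : (5 : ℕ).testBit (j : ℕ) = true ↔ (j : ℕ) = 0 ∨ (j : ℕ) = 2 := by
    rw [show (5 : ℕ) = 2 ^ 0 ||| 2 ^ 2 from rfl, Nat.testBit_or, Bool.or_eq_true, Nat.testBit_two_pow,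
      Nat.testBit_two_pow]
    simp [eq_comm]
  have h1 : (j : ℕ) ∈ pairPts ↔
      ¬((j : ℕ) = 0 ∨ (j : ℕ) = 2) ∧ (moved 0).testBit (j : ℕ) = false ∧ (moved 1).testBit (j : ℕ) = false := by
    rw [← testBit_foldr, ← Nat.eq_of_beq_eq_true common_table, key, Vec.testBit_ones, ← h5]
    show (decide ((j : ℕ) < rep.N) && !(5 ||| (moved 0 ||| moved 1)).testBit (j : ℕ)) = true ↔ _
    rw [Nat.testBit_or, Nat.testBit_or]
    simp [j.2]
  have n0 : P.tp j ≠ a ↔ (j : ℕ) ≠ 0 := by
    rw [Ne, show a = P.tp P.o from P.tp_o.symm, P.tp_injective.eq_iff, Fin.ext_iff]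
    exact Iff.rfl
  have n1 : P.tp j ≠ P.tp pb ↔ (j : ℕ) ≠ 2 := by
    rw [Ne, P.tp_injective.eq_iff, Fin.ext_iff]
    exact Iff.rfl
  have c0 : Commute a (P.tp j) ↔ _ := commute_letter 0 (by decide) j
  have c1 : Commute (P.tp pb) (P.tp j) ↔ _ := tp_pb ▸ commute_letter 1 (by decide) j
  rw [pt_mem_iff, h1, Set.mem_inter_iff]
  simp only [Set.mem_ofPred_eq, P.tp_mem, true_and, n0, n1, c0, c1]
  tauto

/-- the isometry of a common point -/
noncomputable def rf (k : Fin 126) : ↥(Cfsg.reflectionSubgroup (⇑Q6) 1) :=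
  ReflClass.rc (vec k) (by rw [Q6_apply]; exact vec_norm k)

/-- the transposition of a common point -/
noncomputable def tf (k : Fin 126) : ↥pairGroup :=
  ⟨P.tp (pt k), Subgroup.subset_closure ((mem_common _).2 ⟨k, rfl⟩)⟩

/-- the linked pairs -/
noncomputable def link : Subgroup (↥pairGroup × ↥(Cfsg.reflectionSubgroup (⇑Q6) 1)) :=
  Subgroup.closure (Set.range fun i : Fin 7 => (tf (gk i), rf (gk i)))

open CfsgLib.Orth in
theorem link_step (i : Fin 7) (k : Fin 126) :
    tf (gk i) * tf k * (tf (gk i))⁻¹ = tf (sig i k) ∧ rf (gk i) * rf k * (rf (gk i))⁻¹ = rf (sig i k) := by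
  constructor
  · apply Subtype.ext
    show P.tp (pt (gk i)) * P.tp (pt k) * (P.tp (pt (gk i)))⁻¹ = P.tp (pt (sig i k))
    rw [P.conj_tp, ← word_eq]
    congr 1
    exact Fin.ext ((phi_word (words_lt i) _).trans (step_pt i k))
  · apply Subtype.ext
    show refl Q6 (vec (gk i)) * refl Q6 (vec k) * (refl Q6 (vec (gk i)))⁻¹ = refl Q6 (vec (sig i k))
    rw [refl_conj, app_refl]
    have h := step_vec i k
    rw [Q6_apply, vec_norm, inv_one, one_mul, polar_Q6]
    rcases h with h | h
    · rw [h]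
    · rw [h, refl_neg]

theorem link_conj {p : ↥pairGroup × ↥(Cfsg.reflectionSubgroup (⇑Q6) 1)} (hp : p ∈ link) :
    ∀ k, ∃ l, p.1 * tf k * p.1⁻¹ = tf l ∧ p.2 * rf k * p.2⁻¹ = rf l := by
  induction hp using Subgroup.closure_induction with
  | mem x hx =>
    obtain ⟨i, rfl⟩ := hx
    exact fun k => ⟨sig i k, link_step i k⟩
  | one => exact fun k => ⟨k, by simp, by simp⟩
  | mul x y _ _ ihx ihy =>
    intro k
    obtain ⟨l, h1, h2⟩ := ihy k
    obtain ⟨m, h3, h4⟩ := ihx l
    exact ⟨m, by rw [← h3, ← h1, Prod.fst_mul]; group, by rw [← h4, ← h2, Prod.snd_mul]; group⟩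
  | inv x _ ih =>
    intro k
    -- the map is a permutation
    choose f hf using ih
    have hfi : Function.Injective f := fun u v h => by
      have := (hf u).1.trans ((congrArg tf h).trans (hf v).1.symm)
      have := congrArg Subtype.val (mul_left_cancel (mul_right_cancel this))
      exact pt_injective (P.tp_injective this)
    obtain ⟨l, hl⟩ := (Finite.injective_iff_surjective.1 hfi) k
    exact ⟨l, by rw [← hl, ← (hf l).1, Prod.fst_inv]; group, by rw [← hl, ← (hf l).2, Prod.snd_inv]; group⟩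

theorem link_gen (k : Fin 126) : ∃ p ∈ link, p.1 = tf k ∧ p.2 = rf k := by
  have hok := pair_orbit
  let K : Subgroup Cfsg.Spor.Fi22 := Subgroup.closure ((fun w => evW ev w) '' {w | w ∈ pairWords})
  have hmask : maskX.testBit (pt k : ℕ) = true := by
    exact pair_mask k
  obtain ⟨h, hh, hh'⟩ :=
    (orbit_eq_of_ok rep_valid hok phi phi_ev (H := K) rfl (by decide) (pt k)).2 hmask
  have hs := pair_start
  rw [hs] at hh'
  have lift : ∀ g ∈ K, ∃ p ∈ link, (p.1 : Cfsg.Spor.Fi22) = g := by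
    intro g hg
    induction hg using Subgroup.closure_induction with
    | mem x hx =>
      obtain ⟨w, hw, rfl⟩ := hx
      obtain ⟨n, hn, rfl⟩ := List.mem_iff_getElem.1 (show w ∈ pairWords from hw)
      have hn7 : n < 7 := lt_of_lt_of_eq hn (by rfl)
      refine ⟨_, Subgroup.subset_closure ⟨⟨n, hn7⟩, rfl⟩, ?_⟩
      show P.tp (pt (gk ⟨n, hn7⟩)) = evW ev pairWords[n]
      rw [← word_eq]
      congr 1
      exact List.getD_eq_getElem _ _ hn
    | one => exact ⟨1, link.one_mem, rfl⟩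
    | mul x y _ _ ihx ihy =>
      obtain ⟨p, hp, rfl⟩ := ihx
      obtain ⟨q, hq, rfl⟩ := ihy
      exact ⟨p * q, link.mul_mem hp hq, rfl⟩
    | inv x _ ih =>
      obtain ⟨p, hp, rfl⟩ := ih
      exact ⟨p⁻¹, link.inv_mem hp, rfl⟩
  obtain ⟨p, hp, hpv⟩ := lift h hh
  obtain ⟨l, h1, h2⟩ := link_conj hp (gk 0)
  have hl : l = k := by
    apply pt_injective
    apply P.tp_injective
    have := congrArg Subtype.val h1
    rw [show P.tp (pt l) = (tf l : Cfsg.Spor.Fi22) from rfl, ← this]
    show (p.1 : Cfsg.Spor.Fi22) * P.tp (pt (gk 0)) * (p.1 : Cfsg.Spor.Fi22)⁻¹ = _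
    rw [hpv, P.conj_tp]
    exact congrArg P.tp hh'
  subst hl
  exact ⟨p * (tf (gk 0), rf (gk 0)) * p⁻¹, link.mul_mem (link.mul_mem hp (Subgroup.subset_closure ⟨0, rfl⟩))
    (link.inv_mem hp), h1, h2⟩

theorem pair_reflection : Cfsg.IsProjReflectionGroupModThree (↥pairGroup ⧸ Subgroup.center ↥pairGroup) 6 1 1 := by
  refine ⟨Q6, nondeg, disc, quot_center_equiv link ?_ ?_ ?_⟩
  · intro ⟨g, hg⟩
    induction hg using Subgroup.closure_induction with
    | mem x hx =>
      obtain ⟨j, rfl⟩ := P.tp_surj hx.1.1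
      obtain ⟨k, rfl⟩ := (mem_common j).1 hx
      obtain ⟨p, hp, h1, -⟩ := link_gen k
      exact ⟨p, hp, h1⟩
    | one => exact ⟨1, link.one_mem, rfl⟩
    | mul x y _ _ ihx ihy =>
      obtain ⟨p, hp, h⟩ := ihx
      obtain ⟨q, hq, h'⟩ := ihy
      exact ⟨p * q, link.mul_mem hp hq, by rw [Prod.fst_mul, h, h']; rfl⟩
    | inv x _ ih =>
      obtain ⟨p, hp, h⟩ := ih
      exact ⟨p⁻¹, link.inv_mem hp, by rw [Prod.fst_inv, h]; rfl⟩
  · intro ⟨g, hg⟩
    induction hg using Subgroup.closure_induction with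
    | mem x hx =>
      obtain ⟨v, hv, rfl⟩ := ReflClass.eq_refl_of_mem hx
      obtain ⟨k, hk⟩ := vec_cover v (by rwa [← Q6_apply])
      obtain ⟨p, hp, -, h2⟩ := link_gen k
      refine ⟨p, hp, h2.trans (Subtype.ext ?_)⟩
      show CfsgLib.Orth.refl Q6 (vec k) = CfsgLib.Orth.refl Q6 v
      rcases hk with hk | hk
      · rw [hk]
      · rw [hk, CfsgLib.Orth.refl_neg]
    | one => exact ⟨1, link.one_mem, rfl⟩
    | mul x y _ _ ihx ihy =>
      obtain ⟨p, hp, h⟩ := ihx
      obtain ⟨q, hq, h'⟩ := ihy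
      exact ⟨p * q, link.mul_mem hp hq, by rw [Prod.snd_mul, h, h']; rfl⟩
    | inv x _ ih =>
      obtain ⟨p, hp, h⟩ := ih
      exact ⟨p⁻¹, link.inv_mem hp, by rw [Prod.snd_inv, h]; rfl⟩
  · intro p hp
    constructor
    · intro hc
      rw [Subgroup.mem_center_iff]
      intro x
      obtain ⟨x, hx⟩ := x
      induction hx using Subgroup.closure_induction with
      | mem y hy =>
        obtain ⟨v, hv, rfl⟩ := ReflClass.eq_refl_of_mem hy
        obtain ⟨k, hk⟩ := vec_cover v (by rwa [← Q6_apply])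
        obtain ⟨l, h1, h2⟩ := link_conj hp k
        have hc' := Subgroup.mem_center_iff.1 hc (tf k)
        rw [← hc', mul_inv_cancel_right] at h1
        have hl : k = l := pt_injective (P.tp_injective (congrArg Subtype.val h1))
        rw [← hl] at h2
        have e : (⟨CfsgLib.Orth.refl Q6 v, Subgroup.subset_closure hy⟩ : ↥(Cfsg.reflectionSubgroup (⇑Q6) 1)) = rf k := by
          apply Subtype.ext
          show CfsgLib.Orth.refl Q6 v = CfsgLib.Orth.refl Q6 (vec k)
          rcases hk with hk | hk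
          · rw [hk]
          · rw [hk, CfsgLib.Orth.refl_neg]
        rw [e]
        exact (mul_inv_eq_iff_eq_mul.1 h2).symm
      | one => exact Eq.trans (one_mul p.2) (mul_one p.2).symm
      | mul y z _ _ ihy ihz => exact (Commute.mul_left ihy ihz).eq
      | inv y _ ih => exact (Commute.inv_left ih).eq
    · intro hc
      rw [Subgroup.mem_center_iff]
      intro x
      obtain ⟨x, hx⟩ := x
      induction hx using Subgroup.closure_induction with
      | mem y hy =>
        obtain ⟨j, rfl⟩ := P.tp_surj hy.1.1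
        obtain ⟨k, rfl⟩ := (mem_common j).1 hy
        obtain ⟨l, h1, h2⟩ := link_conj hp k
        have hc' := Subgroup.mem_center_iff.1 hc (rf k)
        rw [← hc', mul_inv_cancel_right] at h2
        have hl : k = l := by
          have h3 := congrArg Subtype.val h2
          exact vec_sign k l ((ReflClass.refl_eq_iff (by rw [Q6_apply, vec_norm]; decide)).1 h3)
        rw [← hl] at h1
        exact (mul_inv_eq_iff_eq_mul.1 h1).symm
      | one => exact Eq.trans (one_mul p.1) (mul_one p.1).symm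
      | mul y z _ _ ihy ihz => exact (Commute.mul_left ihy ihz).eq
      | inv y _ ih => exact (Commute.inv_left ih).eq

end CfsgLib.ThreeTrans.Inst.FiTwentyTwo
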