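import Cfsg.Agent.Lib.ThreeTrans.Inst.FiTwentyTwo
import Cfsg.Agent.Lib.ThreeTrans.ReflClass

/-! The tables of the pair of non-commuting members. -/

set_option autoImplicit false
set_option maxRecDepth 8000
set_option maxHeartbeats 2000000

namespace CfsgLib.ThreeTrans.Inst.FiTwentyTwo

open CfsgLib.Presented
open CfsgLib.Presented.Fi22UCosets (ev phi phi_ev rep_valid)
open Fi22UCert (rep alphabet)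

/-- the common points of the pair -/
def pairPts : List ℕ := [16, 26, 27, 40, 41, 42, 43, 44, 62, 63, 64, 65, 66, 88, 89, 90, 91, 92, 120, 121, 154, 183, 193, 213, 230, 231, 235, 243, 266, 267, 268, 276, 291, 292, 293, 298, 308, 309, 335, 336, 337, 338, 339, 340, 350, 369, 370, 371, 372, 379, 380, 391, 392, 393, 424, 425, 426, 427, 428, 429, 430, 431, 432, 433, 447, 448, 472, 473, 474, 475, 477, 488, 489, 490, 502, 539, 540, 541, 542, 543, 544, 545, 546, 547, 549, 569, 570, 571, 601, 603, 606, 621, 676, 677, 678, 679, 680, 682, 683, 685, 688, 717, 718, 719, 720, 827, 828, 830, 831, 833, 836, 840, 845, 886, 887, 989, 991, 994, 996, 999, 1004, 1072, 1166, 1169, 1174, 1349]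

/-- their mask -/
def maskX : ℕ := 0x200000000000000000000000000000000000000000004240000000000000000000000100000000000000001094a0000000000000000000000000c0000000002112d800000000000000000000000001e00000012df000000000000020004a0000000e00002ff8000000004007002f0000018003ff0000000380181e0000401f80000030043800101c00000808c0002000020080000004000000030000001f000007c0001f000c010000

/-- their vectors -/
def pairVecs : List (List ℕ) := [[1, 0, 0, 0, 0, 0], [1, 1, 0, 0, 0, 0], [1, 0, 0, 0, 1, 0], [0, 1, 0, 0, 0, 0], [1, 1, 1, 0, 0, 0], [1, 1, 0, 0, 1, 0], [0, 0, 0, 0, 1, 0], [1, 0, 0, 0, 1, 1], [0, 1, 1, 0, 0, 0], [1, 1, 1, 1, 0, 0], [1, 1, 1, 0, 1, 0], [1, 1, 0, 0, 1, 1], [0, 0, 0, 0, 1, 1], [0, 0, 1, 0, 0, 0], [0, 1, 1, 1, 0, 0], [1, 1, 1, 1, 1, 0], [1, 1, 1, 0, 1, 1], [0, 0, 0, 0, 0, 1], [0, 0, 1, 1,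 0, 0], [1, 1, 1, 1, 1, 1], [0, 0, 0, 1, 0, 0], [0, 1, 2, 0, 2, 2], [0, 1, 0, 0, 2, 1], [0, 1, 2, 2, 2, 2], [0, 1, 2, 0, 0, 2], [0, 1, 2, 0, 2, 0], [0, 1, 1, 0, 2, 1], [0, 1, 0, 0, 1, 2], [0, 1, 1, 2, 2, 2], [0, 1, 2, 2, 0, 2], [0, 1, 2, 2, 2, 0], [0, 1, 1, 1, 2, 1], [1, 1, 2, 0, 0, 2], [0, 1, 2, 0, 0, 1], [0, 1, 2, 0, 1, 0], [0, 0, 1, 0, 2, 1], [1, 2, 0, 0, 2, 1], [0, 1, 1, 0, 1, 2], [0, 0, 1, 2, 2, 2], [0, 1, 1, 2, 0, 2], [0, 1, 1, 2, 2, 0], [1, 1, 2, 2, 0, 2], [0, 1, 2, 2, 0, 1], [0, 1, 2, 2, 1, 0], [0, 0, 1, 1, 2, 1], [1, 2, 2, 0, 0, 2], [1, 1, 2, 0, 0, 1], [0, 1, 2, 0, 1, 1], [1, 2, 1, 0, 2, 0], [1, 0, 2, 0, 1, 2], [0, 0, 1, 0, 1, 2], [1, 2, 2, 0, 2, 1], [1, 2, 0, 0, 0, 1], [0, 1, 1, 1, 1, 2], [1, 0, 2, 1, 1, 1], [0, 0, 1, 2, 0, 2], [0, 0, 1, 2, 2, 0], [1, 1, 1, 2, 0, 2], [0, 1, 1, 2, 0, 1],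 [0, 1, 1, 2, 1, 0], [1, 2, 2, 2, 0, 2], [1, 1, 2, 2, 0, 1], [0, 1, 2, 2, 1, 1], [1, 2, 1, 1, 2, 0], [1, 0, 2, 2, 1, 2], [0, 0, 0, 1, 2, 1], [1, 2, 0, 0, 0, 2], [1, 2, 2, 0, 0, 1], [1, 1, 2, 0, 2, 1], [1, 2, 1, 0, 2, 2], [1, 0, 1, 0, 2, 0], [1, 0, 1, 0, 1, 2], [1, 0, 2, 0, 2, 2], [0, 0, 1, 1, 1, 2], [1, 2, 2, 2, 2, 1], [1, 0, 2, 1, 1, 0], [0, 0, 1, 2, 0, 1], [0, 0, 1, 2, 1, 0], [1, 1, 1, 2, 0, 1], [0, 1, 1, 2, 1, 1], [1, 2, 2, 1, 2, 0], [1, 2, 2, 2, 0, 1], [1, 1, 2, 2, 2, 1], [1, 2, 1, 1, 2, 2], [1, 0, 1, 1, 2, 0], [1, 0, 0, 2, 1, 2], [1, 0, 2, 2, 2, 2], [0, 0, 0, 1, 1, 2], [1, 2, 1, 0, 1, 2], [1, 0, 1, 0, 2, 2], [1, 0, 2, 0, 2, 0], [1, 0, 1, 1, 1, 2], [1, 0, 2, 1, 0, 0], [0, 0, 1, 2, 1, 1], [1, 0, 1, 2, 1, 0], [1, 1, 1, 2, 2, 1], [1, 2, 2, 1, 2, 2], [1, 1, 2, 1, 2, 0], [1, 2, 1, 1, 1, 2], [1, 0,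 1, 1, 2, 2], [1, 0, 0, 1, 2, 0], [1, 1, 0, 2, 1, 2], [1, 0, 0, 1, 1, 2], [1, 0, 0, 2, 2, 2], [1, 0, 2, 2, 2, 0], [1, 0, 1, 2, 0, 0], [1, 0, 1, 2, 1, 1], [1, 2, 1, 2, 1, 0], [1, 2, 2, 1, 1, 2], [1, 1, 2, 1, 2, 2], [1, 1, 0, 1, 2, 0], [1, 0, 0, 1, 2, 2], [1, 0, 0, 2, 2, 0], [1, 1, 0, 1, 1, 2], [1, 1, 0, 2, 2, 2], [1, 2, 1, 2, 0, 0], [1, 2, 1, 2, 1, 1], [1, 2, 0, 2, 1, 0], [1, 1, 2, 1, 1, 2], [1, 1, 0, 1, 2, 2], [1, 1, 0, 2, 2, 0], [1, 2, 0, 1, 1, 1], [1, 2, 0, 2, 0, 0], [1, 2, 0, 2, 1, 1], [1, 2, 0, 1, 1, 0], [1, 2, 0, 1, 0, 0]]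

/-- the generating words -/
def pairWords : List (List ℕ) := [[3], [4], [5], [6], [7], [8], [3, 7, 8, 7, 2, 3, 4, 1, 2, 3, 7, 6, 5, 4, 3, 2, 1, 0, 1, 2, 3, 4, 5, 6, 7, 3, 2, 1, 4, 3, 2, 7, 8, 7, 3]]

/-- the vectors of the generators -/
def genVecs : List (List ℕ) := [[1, 0, 0, 0, 0, 0], [0, 1, 0, 0, 0, 0], [0, 0, 1, 0, 0, 0], [0, 0, 0, 1, 0, 0], [0, 0, 0, 0, 1, 0], [0, 0, 0, 0, 0, 1], [1, 2, 1, 1, 2, 2]]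

/-- the positions of the generators -/
def genPos : List ℕ := [0, 3, 13, 20, 6, 17, 83]

/-- the conjugating words of the generators -/
def genConj : List (List ℕ) := [[2, 3, 1, 2, 0, 1], [3, 4, 2, 3, 1, 2, 0, 1], [4, 5, 3, 4, 2, 3, 1, 2, 0, 1], [5, 6, 4, 5, 3, 4, 2, 3, 1, 2, 0, 1], [3, 7, 2, 3, 1, 2, 0, 1], [7, 8, 3, 7, 2, 3, 1, 2, 0, 1], [3, 7, 8, 7, 2, 3, 4, 1, 2, 3, 7, 6, 5, 4, 3, 2, 1]]

/-- the permutations of the generators on the common points -/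
def pairPerms : List (List ℕ) := [[0, 3, 6, 1, 8, 5, 2, 12, 4, 14, 10, 11, 7, 13, 9, 15, 16, 17, 18, 19, 20, 21, 22, 23, 32, 25, 26, 36, 28, 41, 30, 31, 24, 46, 48, 49, 27, 51, 54, 57, 40, 29, 61, 63, 64, 45, 33, 69, 34, 35, 71, 37, 52, 74, 38, 55, 75, 39, 78, 80, 60, 42, 83, 43, 44, 85, 66, 67, 88, 47, 70, 50, 72, 91, 53, 56, 76, 94, 58, 96, 59, 81, 98, 62, 84, 65, 86, 102, 68, 89, 90, 73, 105, 106, 77, 108, 79, 107, 82, 99, 100, 101, 87, 103, 104, 92, 93, 97, 95, 116, 117, 111, 112, 113, 121, 115, 109, 110, 118, 123, 124, 114, 122, 119, 120, 125], [1, 0, 5, 3, 4, 2, 6, 11, 13, 9, 10, 7, 12, 8, 18, 15, 16, 17, 14, 19, 20, 21, 27, 23, 24, 25, 35, 22, 38, 29, 30, 44, 45, 33, 34, 26, 36, 50, 28, 55, 56, 60, 42, 43, 31, 32, 67, 47, 70, 49, 37, 68, 52, 73, 54, 39, 40, 57, 76, 77, 41, 81, 62, 84, 64,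 65, 66, 46, 51, 89, 48, 88, 72, 53, 82, 75, 58, 59, 78, 93, 97, 61, 74, 99, 63, 101, 86, 87, 71, 69, 90, 98, 92, 79, 107, 95, 109, 80, 91, 83, 110, 85, 113, 114, 104, 115, 116, 94, 118, 96, 100, 119, 120, 102, 103, 105, 106, 117, 108, 111, 112, 121, 122, 123, 124, 125], [0, 4, 2, 8, 1, 10, 6, 7, 3, 9, 5, 16, 12, 13, 14, 15, 11, 17, 20, 19, 18, 21, 26, 28, 24, 25, 22, 37, 23, 39, 40, 31, 32, 33, 34, 50, 51, 27, 38, 29, 30, 57, 58, 59, 65, 66, 46, 47, 48, 71, 35, 36, 67, 53, 54, 55, 56, 41, 42, 43, 60, 78, 79, 80, 85, 44, 45, 52, 68, 69, 90, 49, 89, 87, 74, 75, 76, 77, 61, 62, 63, 81, 95, 96, 100, 64, 103, 73, 88, 72, 70, 102, 92, 93, 94, 82, 83, 110, 108, 111, 84, 101, 91, 86, 112, 105, 106, 117, 98, 119, 97, 99, 104, 118, 114, 122, 123, 107, 113, 109, 120, 121, 115, 116, 124, 125], [0, 1, 2, 3,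 9, 5, 6, 7, 14, 4, 15, 11, 12, 18, 8, 10, 19, 17, 13, 16, 20, 23, 22, 21, 29, 30, 31, 27, 28, 24, 25, 26, 41, 42, 43, 44, 36, 53, 38, 39, 40, 32, 33, 34, 35, 60, 61, 62, 63, 64, 73, 74, 52, 37, 54, 55, 56, 57, 58, 59, 45, 46, 47, 48, 49, 87, 66, 81, 82, 83, 84, 91, 86, 50, 51, 75, 76, 77, 78, 79, 80, 67, 68, 69, 70, 102, 72, 65, 98, 99, 104, 71, 92, 93, 94, 95, 96, 97, 88, 89, 112, 113, 85, 111, 90, 105, 106, 107, 108, 109, 120, 103, 100, 101, 119, 115, 116, 124, 118, 114, 110, 123, 125, 121, 117, 122], [2, 5, 0, 3, 10, 1, 6, 7, 8, 15, 4, 11, 17, 13, 14, 9, 16, 12, 18, 19, 20, 24, 22, 29, 21, 34, 26, 27, 39, 23, 43, 31, 32, 47, 25, 35, 52, 37, 55, 28, 59, 41, 62, 30, 44, 45, 68, 33, 48, 72, 50, 67, 36, 53, 54, 38, 77, 57, 79, 40, 60, 82, 42, 63, 86, 65, 66, 51, 46, 88, 70, 89, 49, 73, 81, 92, 93,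 56, 95, 58, 80, 74, 61, 98, 84, 103, 64, 87, 69, 71, 90, 99, 75, 76, 105, 78, 108, 97, 83, 91, 100, 114, 111, 85, 104, 94, 106, 115, 96, 118, 110, 102, 112, 119, 101, 107, 116, 122, 109, 113, 120, 121, 117, 123, 125, 124], [0, 1, 7, 3, 4, 11, 12, 2, 8, 9, 16, 5, 6, 13, 14, 19, 10, 17, 18, 15, 20, 25, 22, 30, 33, 21, 26, 27, 40, 42, 23, 31, 46, 24, 47, 35, 36, 37, 56, 58, 28, 61, 29, 62, 44, 67, 32, 34, 69, 49, 50, 51, 66, 53, 75, 76, 38, 78, 39, 79, 81, 41, 43, 83, 64, 65, 52, 45, 68, 48, 89, 71, 90, 73, 74, 54, 55, 93, 57, 59, 96, 60, 82, 63, 99, 85, 104, 87, 88, 70, 72, 91, 92, 77, 106, 95, 80, 109, 98, 84, 111, 101, 102, 112, 86, 105, 94, 116, 108, 97, 119, 100, 103, 113, 120, 115, 107, 123, 118, 110, 114, 124, 122, 117, 121, 125], [62, 1, 61, 99, 106, 53, 98, 23, 119, 9, 10, 11, 12, 96, 86,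 27, 105, 63, 18, 19, 69, 21, 22, 7, 97, 102, 75, 15, 28, 29, 41, 31, 85, 100, 118, 35, 36, 37, 122, 120, 49, 30, 82, 43, 52, 77, 46, 47, 48, 40, 124, 55, 44, 5, 54, 51, 56, 71, 90, 101, 60, 2, 0, 17, 64, 107, 66, 117, 112, 20, 95, 57, 114, 81, 74, 26, 76, 45, 78, 79, 80, 73, 42, 83, 84, 32, 14, 87, 88, 89, 58, 91, 92, 123, 94, 70, 13, 24, 6, 3, 33, 59, 25, 103, 104, 16, 4, 65, 108, 111, 110, 109, 68, 113, 72, 115, 116, 67, 34, 8, 39, 121, 38, 93, 50, 125]]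

/-- rounds of the orbit computation -/
def pairRounds : ℕ := 4

/-- start of the orbit computation -/
def pairStart : ℕ := 16

/-- the other member of the pair -/
def pb : Fin rep.N := ⟨2, by decide⟩

/-- the coefficients of the form -/
def formM : Matrix (Fin 6) (Fin 6) (ZMod 3) :=
  !![1, 2, 0, 0, 2, 0; 0, 1, 2, 0, 0, 0; 0, 0, 1, 2, 0, 0; 0, 0, 0, 1, 0, 0; 0, 0, 0, 0, 1, 2; 0, 0, 0, 0, 0, 1]

/-- the form of the pair -/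
noncomputable def Q6 : QuadraticForm (ZMod 3) (Fin 6 → ZMod 3) :=
  LinearMap.BilinMap.toQuadraticMap (Matrix.toLinearMap₂' (ZMod 3) formM)

/-- its values -/
def qf (v : Fin 6 → ZMod 3) : ZMod 3 :=
  v 0 * v 0 + v 1 * v 1 + v 2 * v 2 + v 3 * v 3 + v 4 * v 4 + v 5 * v 5 +
    2 * (v 0 * v 1 + v 0 * v 4 + v 1 * v 2 + v 2 * v 3 + v 4 * v 5)

theorem Q6_apply (v : Fin 6 → ZMod 3) : Q6 v = qf v := by
  rw [Q6, LinearMap.BilinMap.toQuadraticMap_apply, Matrix.toLinearMap₂'_apply]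
  simp [Fin.sum_univ_six, formM, qf]
  ring

theorem coe_Q6 : (⇑Q6) = qf := funext Q6_apply

theorem polar_Q6 (x y : Fin 6 → ZMod 3) : QuadraticMap.polar (⇑Q6) x y = qf (x + y) - qf x - qf y := by
  rw [coe_Q6, QuadraticMap.polar]

/-- the vector of a list of digits -/
def toVec (l : List ℕ) : Fin 6 → ZMod 3 := fun i => ((l.getD i 0 : ℕ) : ZMod 3)

/-- the common points -/
def pt (k : Fin 126) : Fin rep.N := ⟨pairPts.getD k 0 % rep.N, Nat.mod_lt _ (by decide)⟩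

/-- the vector of a common point -/
def vec (k : Fin 126) : Fin 6 → ZMod 3 := toVec (pairVecs.getD k [])

/-- the position of a generator -/
def gk (i : Fin 7) : Fin 126 := ⟨genPos.getD i 0 % 126, Nat.mod_lt _ (by norm_num)⟩

/-- the permutation of a generator -/
def sig (i : Fin 7) (k : Fin 126) : Fin 126 :=
  ⟨(pairPerms.getD i []).getD k 0 % 126, Nat.mod_lt _ (by norm_num)⟩

/-- the position of a code -/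
def pairTab : List (List ℕ) := [[0, 0, 0, 3, 1, 0, 3, 0, 1, 13, 0, 0, 8, 4, 0, 0, 0, 0, 13, 0, 0, 0, 0, 0, 8, 0, 4, 20, 0, 0, 0, 0, 122, 0, 125, 0, 18, 0, 0, 14, 9, 0, 0, 0, 0, 0, 92, 105, 0, 0, 115, 0, 0, 0, 20, 0, 0, 0, 0, 125, 0, 122, 0, 0, 105, 92, 0, 0, 0, 0, 115, 0, 18, 0, 0, 0, 0, 0, 14, 0, 9], [6, 2, 0, 0, 5, 0, 0, 0, 0, 0, 0, 90, 0, 10, 0, 25, 0, 0, 0, 0, 70, 34, 0, 48, 0, 0, 0, 0, 0, 112, 0, 0, 0, 0, 124, 120, 0, 0, 104, 0, 15, 0, 30, 0, 0, 56, 75, 0, 0, 0, 0, 40, 0, 0, 0, 0, 100, 0, 0, 0, 0, 117, 110, 77, 94, 0, 59, 0, 80, 0, 107, 97, 0, 0, 84, 43, 0, 63, 0, 0, 0], [6, 0, 2, 0, 0, 0, 0, 0, 5, 0, 70, 0, 0, 0, 0, 34, 48, 0, 0, 90, 0, 25, 0, 0, 0, 0, 10, 0, 100, 0, 0, 110, 117, 0, 0, 0, 0, 84, 0, 0, 0, 0, 43, 63, 0, 77, 0, 94, 0, 97, 107, 59, 80, 0, 0, 112, 0, 0, 120, 124, 0, 0, 0, 56,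 0, 75, 40, 0, 0, 0, 0, 0, 0, 104, 0, 30, 0, 0, 0, 0, 15], [17, 0, 0, 0, 0, 66, 0, 52, 0, 0, 0, 0, 0, 0, 45, 24, 0, 32, 0, 0, 0, 33, 46, 0, 0, 67, 0, 0, 0, 0, 0, 0, 0, 0, 0, 0, 0, 0, 0, 0, 0, 60, 29, 0, 41, 55, 0, 0, 0, 0, 0, 39, 0, 57, 0, 0, 0, 0, 0, 0, 0, 0, 0, 76, 0, 0, 58, 78, 0, 0, 0, 0, 0, 0, 0, 42, 61, 0, 0, 81, 0], [12, 7, 0, 0, 11, 0, 0, 0, 0, 0, 0, 72, 0, 16, 0, 21, 0, 0, 0, 0, 89, 47, 0, 69, 0, 0, 0, 0, 0, 103, 0, 0, 0, 0, 121, 114, 0, 0, 86, 0, 19, 0, 23, 0, 0, 38, 54, 0, 0, 0, 0, 28, 0, 0, 0, 0, 111, 0, 0, 0, 0, 123, 119, 93, 106, 0, 79, 0, 96, 0, 116, 109, 0, 0, 99, 62, 0, 83, 0, 0, 0], [0, 0, 0, 22, 0, 0, 27, 36, 0, 35, 0, 49, 26, 0, 0, 0, 0, 0, 50, 0, 71, 0, 68, 88, 37, 51, 0, 65, 0, 85, 0, 0, 0, 0, 0, 101, 44, 0, 64, 31, 0, 0, 0, 0, 0, 0, 0, 0, 0, 0, 0, 0, 0, 0, 87, 0, 102, 0, 0,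 0, 0, 0, 113, 0, 0, 0, 0, 95, 108, 0, 0, 118, 73, 0, 91, 0, 82, 98, 53, 74, 0], [17, 0, 0, 0, 0, 52, 0, 66, 0, 0, 0, 0, 0, 0, 67, 33, 0, 46, 0, 0, 0, 24, 32, 0, 0, 45, 0, 0, 0, 0, 0, 0, 0, 0, 0, 0, 0, 0, 0, 0, 0, 81, 42, 0, 61, 76, 0, 0, 0, 0, 0, 58, 0, 78, 0, 0, 0, 0, 0, 0, 0, 0, 0, 55, 0, 0, 39, 57, 0, 0, 0, 0, 0, 0, 0, 29, 41, 0, 0, 60, 0], [0, 0, 0, 27, 0, 36, 22, 0, 0, 50, 71, 0, 37, 0, 51, 0, 88, 68, 35, 49, 0, 0, 0, 0, 26, 0, 0, 87, 102, 0, 0, 113, 0, 0, 0, 0, 73, 91, 0, 53, 0, 74, 0, 98, 82, 0, 0, 0, 0, 118, 0, 0, 108, 95, 65, 85, 0, 0, 101, 0, 0, 0, 0, 0, 0, 0, 0, 0, 0, 0, 0, 0, 44, 64, 0, 0, 0, 0, 31, 0, 0], [12, 0, 7, 0, 0, 0, 0, 0, 11, 0, 89, 0, 0, 0, 0, 47, 69, 0, 0, 72, 0, 21, 0, 0, 0, 0, 16, 0, 111, 0, 0, 119, 123, 0, 0, 0, 0, 99, 0, 0, 0, 0, 62, 83, 0, 93, 0, 106, 0, 109, 116, 79,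 96, 0, 0, 103, 0, 0, 114, 121, 0, 0, 0, 38, 0, 54, 28, 0, 0, 0, 0, 0, 0, 86, 0, 23, 0, 0, 0, 0, 19]]

/-- the code of a vector -/
def code (v : Fin 6 → ZMod 3) : ℕ :=
  (v 0).val + 3 * (v 1).val + 9 * (v 2).val + 27 * (v 3).val + 81 * (v 4).val + 243 * (v 5).val

/-- the position of a vector up to sign -/
def posOf (v : Fin 6 → ZMod 3) : Fin 126 :=
  ⟨(pairTab.getD (code v / 81) []).getD (code v % 81) 0 % 126, Nat.mod_lt _ (by norm_num)⟩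

/-- the points moved by a network, on the slices -/
noncomputable def movedBy (l : List Vec.Stage) : List ℕ → ℕ
  | [] => 0
  | s :: ss => Nat.lor (Nat.xor (Vec.applyNet l s) s) (movedBy l ss)

end CfsgLib.ThreeTrans.Inst.FiTwentyTwo
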