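import Cfsg.Agent.Lib.ThreeTrans.Inst.FiTwentyTwoPairData

/-! Kernel checks for the vectors of the pair. -/

set_option autoImplicit false
set_option maxRecDepth 8000
set_option maxHeartbeats 2000000
set_option Elab.async false

namespace CfsgLib.ThreeTrans.Inst.FiTwentyTwo

open CfsgLib.Presented
open CfsgLib.Presented.Fi22UCosets (ev phi phi_ev rep_valid)
open Fi22UCert (rep alphabet)

theorem nondeg : (QuadraticMap.polarBilin Q6).Nondegenerate := by
  have key : ∀ x : Fin 6 → ZMod 3, (∀ i, qf (x + Pi.single i 1) - qf x - qf (Pi.single i 1) = 0) → x = 0 := by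
    decide +kernel
  have hl : LinearMap.SeparatingLeft (QuadraticMap.polarBilin Q6) := fun x hx =>
    key x fun i => by rw [← polar_Q6]; exact hx _
  exact ⟨hl, fun x hx => hl x fun y => by
    rw [QuadraticMap.polarBilin_apply_apply, QuadraticMap.polar_comm]; exact hx y⟩

theorem disc : Cfsg.polarGramDet (⇑Q6) = 1 := by
  have h : (Matrix.of fun i j : Fin 6 => QuadraticMap.polar (⇑Q6) (Pi.single i 1) (Pi.single j 1)) =
      !![2, 2, 0, 0, 2, 0; 2, 2, 2, 0, 0, 0; 0, 2, 2, 2, 0, 0; 0, 0, 2, 2, 0, 0; 2, 0, 0, 0, 2, 2; 0, 0, 0, 0, 2, 2] := by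
    simp only [polar_Q6]
    decide +kernel
  rw [Cfsg.polarGramDet, h]
  simp [Matrix.det_succ_row_zero, Fin.sum_univ_succ, Fin.succAbove]
  decide

theorem vec_norm : ∀ k, qf (vec k) = 1 := by decide +kernel

theorem pt_injective : Function.Injective pt := by
  have h : ∀ k : Fin 125, (pt k.castSucc : ℕ) < (pt k.succ : ℕ) := by decide +kernel
  exact (Fin.strictMono_iff_lt_succ.2 h).injective

theorem step_vec : ∀ (i : Fin 7) (k : Fin 126),
    vec k - (qf (vec k + vec (gk i)) - qf (vec k) - qf (vec (gk i))) • vec (gk i) = vec (sig i k) ∨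
    vec k - (qf (vec k + vec (gk i)) - qf (vec k) - qf (vec (gk i))) • vec (gk i) = -vec (sig i k) := by
  decide +kernel

end CfsgLib.ThreeTrans.Inst.FiTwentyTwo
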