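import Cfsg.Agent.Lib.ThreeTrans.Inst.FiTwentyTwoPair
import Cfsg.Agent.Lib.ThreeTrans.FischerTypes

/-! The presented group is of type M(22), given the structure of the point stabiliser. -/

set_option autoImplicit false

namespace CfsgLib.ThreeTrans.Inst.FiTwentyTwo

open CfsgLib.Presented
open CfsgLib.Presented.Fi22UCosets (ev phi phi_ev hWords)
open CfsgLib.ThreeTrans (psu_six_center psu_six_noncomm)

/-- the neighbours of the base member -/
noncomputable abbrev nbrs : Set Cfsg.Spor.Fi22 := {y | y ∈ D ∧ y ≠ a ∧ Commute a y}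

theorem nbrs_le : Subgroup.closure nbrs ≤ Fi22UCosets.H := by
  rw [Subgroup.closure_le]
  rintro y ⟨-, -, hc⟩
  exact mem_H_of_fix (fix y hc.symm)

theorem closure_nbrs_eq {F : Type} [Field F] [Fintype F] (hF : Fintype.card F = 4)
    (h : Cfsg.IsNonsplitDoubleCover Fi22UCosets.H (Cfsg.PSU 6 F 2)) :
    Subgroup.closure nbrs = Fi22UCosets.H := by
  obtain ⟨hZ2, ⟨e⟩, hsplit⟩ := h
  have hF' : Fintype.card F = 2 ^ 2 := hF.trans (by norm_num)
  have : IsSimpleGroup (Cfsg.PSU 6 F 2) :=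
    CfsgLib.ClassicalGroups.psu_isSimpleGroup (n := 6) hF' (by norm_num) (by norm_num)
  set N : Subgroup Fi22UCosets.H := (Subgroup.closure nbrs).subgroupOf Fi22UCosets.H with hN
  have hNn : N.Normal := by
    constructor
    intro x hx g
    rw [hN, Subgroup.mem_subgroupOf] at hx ⊢
    have hg : (g : Cfsg.Spor.Fi22) * a * (g : Cfsg.Spor.Fi22)⁻¹ = a := by
      rw [(commute_a g.2).eq, mul_inv_cancel_right]
    have hmap : (Subgroup.closure nbrs).map (MulAut.conj (g : Cfsg.Spor.Fi22)).toMonoidHom ≤ Subgroup.closure nbrs := by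
      rw [MonoidHom.map_closure, Subgroup.closure_le]
      rintro _ ⟨y, ⟨hy, hne, hc⟩, rfl⟩
      refine Subgroup.subset_closure ⟨P.conj_mem _ hy, fun he => hne ?_, ?_⟩
      · have : MulAut.conj (g : Cfsg.Spor.Fi22) y = MulAut.conj (g : Cfsg.Spor.Fi22) a := by
          rw [MulAut.conj_apply, MulAut.conj_apply, hg]; exact he
        exact (MulAut.conj _).injective this
      · have := hc.map (MulAut.conj (g : Cfsg.Spor.Fi22)).toMonoidHom
        simp only [MulEquiv.coe_toMonoidHom, MulAut.conj_apply] at this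
        rwa [hg] at this
    exact hmap ⟨_, hx, rfl⟩
  set f : Fi22UCosets.H →* Cfsg.PSU 6 F 2 := e.toMonoidHom.comp (QuotientGroup.mk' _) with hf
  have hfs : Function.Surjective f := e.surjective.comp (QuotientGroup.mk'_surjective _)
  have hker : f.ker = Subgroup.center Fi22UCosets.H := by
    ext x
    simp [hf]
  have haH : a ∈ Fi22UCosets.H := mem_H_of_fix (fix a (Commute.refl a))
  have hc2 : ∀ z ∈ Subgroup.center Fi22UCosets.H, z = 1 ∨ (z : Cfsg.Spor.Fi22) = a := by
    intro z hz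
    have hza : (⟨a, haH⟩ : Fi22UCosets.H) ∈ Subgroup.center Fi22UCosets.H :=
      Subgroup.mem_center_iff.2 fun w => Subtype.ext (commute_a w.2).eq
    obtain ⟨u, v, huv, hcov⟩ := Nat.card_eq_two_iff.1 hZ2
    have hne : (⟨_, hza⟩ : Subgroup.center Fi22UCosets.H) ≠ 1 := fun he =>
      a_ne (congrArg (fun t : Subgroup.center Fi22UCosets.H => ((t : Fi22UCosets.H) : Cfsg.Spor.Fi22)) he)
    have mem := fun t => (hcov.symm ▸ Set.mem_univ t : t ∈ ({u, v} : Set _))
    have h1 := mem ⟨z, hz⟩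
    have h2 := mem 1
    have h3 := mem ⟨_, hza⟩
    simp only [Set.mem_insert_iff, Set.mem_singleton_iff] at h1 h2 h3
    by_cases hz1 : (⟨z, hz⟩ : Subgroup.center Fi22UCosets.H) = 1
    · exact Or.inl (congrArg Subtype.val hz1)
    · refine Or.inr ?_
      have : (⟨z, hz⟩ : Subgroup.center Fi22UCosets.H) = ⟨_, hza⟩ := by grind
      exact congrArg (fun t : Subgroup.center Fi22UCosets.H => ((t : Fi22UCosets.H) : Cfsg.Spor.Fi22)) this
  -- a neighbour
  obtain ⟨hd, hne, hcd⟩ : P.tp (phi gA o) ∈ nbrs := by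
    refine ⟨P.tp_mem _, ?_, ?_⟩
    · rw [Ne, show a = P.tp P.o from P.tp_o.symm, P.tp_injective.eq_iff, gA_o]
      decide
    · refine (P.commute_tp_iff a _).2 (Fin.ext ?_)
      rw [gA_o]
      exact (phi_word (w := [0]) (by decide) _).trans (by decide +kernel)
  have htop : N.map f = ⊤ := by
    refine ((hNn.map f hfs).eq_bot_or_eq_top).resolve_left fun hb => ?_
    have hmemH := nbrs_le (Subgroup.subset_closure ⟨hd, hne, hcd⟩)
    have : f ⟨_, hmemH⟩ = 1 := by
      rw [← Subgroup.mem_bot, ← hb]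
      exact ⟨_, Subgroup.subset_closure ⟨hd, hne, hcd⟩, rfl⟩
    have hc3 : (⟨_, hmemH⟩ : Fi22UCosets.H) ∈ Subgroup.center Fi22UCosets.H := hker ▸ MonoidHom.mem_ker.2 this
    rcases hc2 _ hc3 with h1 | h1
    · exact P.tp_ne_one _ (congrArg Subtype.val h1)
    · exact hne h1
  by_cases haN : (⟨a, haH⟩ : Fi22UCosets.H) ∈ N
  · refine le_antisymm nbrs_le fun x hx => ?_
    obtain ⟨w, hw, hwx⟩ : f ⟨x, hx⟩ ∈ N.map f := htop ▸ Subgroup.mem_top _
    rcases hc2 (w⁻¹ * ⟨x, hx⟩) (hker ▸ (by simp [MonoidHom.mem_ker, hwx] : w⁻¹ * ⟨x, hx⟩ ∈ f.ker)) with h1 | h1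
    · rw [inv_mul_eq_one] at h1
      subst h1; exact hw
    · have : (⟨x, hx⟩ : Fi22UCosets.H) ∈ N := by
        have h2 : w⁻¹ * ⟨x, hx⟩ = (⟨a, haH⟩ : Fi22UCosets.H) := Subtype.ext h1
        rw [inv_mul_eq_iff_eq_mul] at h2
        rw [h2]; exact N.mul_mem hw haN
      exact this
  · refine absurd ?_ (hsplit N)
    refine Subgroup.isComplement'_of_disjoint_and_mul_eq_univ ?_ ?_
    · rw [Subgroup.disjoint_def]
      intro x hx hxN
      rcases hc2 x hx with h1 | h1
      · exact h1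
      · exact absurd ((Subtype.ext h1 : x = ⟨a, haH⟩) ▸ hxN) haN
    · rw [Set.eq_univ_iff_forall]
      intro x
      obtain ⟨w, hw, hwx⟩ : f x ∈ N.map f := htop ▸ Subgroup.mem_top _
      refine ⟨x * w⁻¹, ?_, w, hw, inv_mul_cancel_right x w⟩
      rw [SetLike.mem_coe, ← hker, MonoidHom.mem_ker, map_mul, map_inv, hwx, mul_inv_cancel]

theorem center_bot : Subgroup.center Cfsg.Spor.Fi22 = ⊥ := by
  have := Fi22Simple.simple
  refine (Subgroup.Normal.eq_bot_or_eq_top inferInstance).resolve_right fun h => not_commute_gA ?_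
  exact (Subgroup.mem_center_iff.1 (h ▸ Subgroup.mem_top a : a ∈ Subgroup.center Cfsg.Spor.Fi22) gA)

theorem not_commute_pb : ¬ Commute a (P.tp pb) := fun h => by
  have h1 := (P.commute_tp_iff a pb).1 h
  exact absurd (congrArg Fin.val h1) (by
    rw [show (P.φ a pb : ℕ) = _ from phi_word (w := [0]) (by decide) pb]
    decide +kernel)

theorem isOfType {F : Type} [iF : Field F] [iT : Fintype F] (hF : Fintype.card F = 4)
    (h : Cfsg.IsNonsplitDoubleCover Fi22UCosets.H (Cfsg.PSU 6 F 2)) :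
    Cfsg.IsOfTypeM22 Cfsg.Spor.Fi22 D := by
  refine ⟨center_bot, a, P.a_mem, P.tp pb, P.tp_mem _, not_commute_pb, ⟨F, iF, iT, hF, ?_⟩, 1, one_ne_zero, pair_reflection⟩
  obtain ⟨-, ⟨e⟩, -⟩ := id h
  let e₁ := MulEquiv.subgroupCongr (closure_nbrs_eq hF h)
  exact ⟨(QuotientGroup.congr _ _ e₁ (by
    ext x
    constructor
    · rintro ⟨y, hy, rfl⟩
      refine Subgroup.mem_center_iff.2 fun w => e₁.symm.injective ?_
      simpa using Subgroup.mem_center_iff.1 hy (e₁.symm w)
    · intro hx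
      refine ⟨e₁.symm x, Subgroup.mem_center_iff.2 fun w => e₁.injective ?_, e₁.apply_symm_apply x⟩
      simpa using Subgroup.mem_center_iff.1 hx (e₁ w))).trans e⟩

end CfsgLib.ThreeTrans.Inst.FiTwentyTwo
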